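import Mathlib
import Cfsg.Agent.Lib.Small.SymplecticSemisimple

/-!
The parts of a symplectic matrix at the eigenvalues one and minus one, as idempotents which are
polynomials in the matrix.
-/

set_option autoImplicit false
set_option linter.unusedSectionVars false
set_option linter.style.haveILetI false

namespace Cfsg.Agent.Small.ClassNumberSp

open Matrix Cfsg.Agent.Small.SymplecticSemisimple

section Monoid

variable (R : Type*) [Monoid R] [Finite R]

/-- An exponent making every power idempotent. -/
noncomputable def idN : ℕ := 2 * (Nat.card R).factorial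

theorem idN_pos : 0 < idN R := Nat.mul_pos two_pos (Nat.factorial_pos _)

theorem idN_even : Even (idN R) := even_two_mul _

variable {R}

theorem pow_idN (x : R) : x ^ idN R * x ^ idN R = x ^ idN R := by
  haveI : Fintype R := Fintype.ofFinite _
  obtain ⟨a, b, hne, hab⟩ := Fintype.exists_ne_map_eq_of_card_lt
    (fun i : Fin (Fintype.card R + 1) => x ^ (i : ℕ)) (by simp)
  wlog hlt : a < b generalizing a b
  · exact this b a hne.symm hab.symm (lt_of_le_of_ne (not_lt.1 hlt) hne.symm)
  have hlt' : (a : ℕ) < b := hlt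
  have hb := b.isLt
  have step : ∀ n, (a : ℕ) ≤ n → x ^ (n + ((b : ℕ) - a)) = x ^ n := by
    intro n hn
    obtain ⟨c, rfl⟩ := Nat.exists_eq_add_of_le hn
    rw [show (a : ℕ) + c + ((b : ℕ) - a) = b + c by omega, pow_add, ← hab, ← pow_add]
  have iter : ∀ k n, (a : ℕ) ≤ n → x ^ (n + k * ((b : ℕ) - a)) = x ^ n := by
    intro k
    induction k with
    | zero => intro n _; rw [Nat.zero_mul, Nat.add_zero]
    | succ k ih => intro n hn; rw [Nat.succ_mul, ← Nat.add_assoc, step _ (by omega), ih n hn]
  have hcard : Fintype.card R = Nat.card R := Nat.card_eq_fintype_card.symm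
  have hN : (a : ℕ) ≤ idN R := by
    have := Nat.self_le_factorial (Nat.card R)
    rw [idN]
    omega
  obtain ⟨k, hk⟩ : ((b : ℕ) - a) ∣ idN R :=
    (Nat.dvd_factorial (by omega) (by omega : (b : ℕ) - a ≤ Nat.card R)).mul_left 2
  rw [← pow_add]
  conv_lhs => arg 2; arg 2; rw [hk, Nat.mul_comm]
  exact iter k _ hN

theorem pow_idN_unit {x : R} (hx : IsUnit x) : x ^ idN R = 1 :=
  (hx.pow _).mul_left_cancel ((pow_idN x).trans (mul_one _).symm)

end Monoid

section Ring

variable {R : Type*} [Ring R] [Finite R]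

/-- The idempotent of the eigenvalue one. -/
noncomputable def eP (g : R) : R := 1 - (g - 1) ^ idN R

/-- The idempotent of the eigenvalue minus one. -/
noncomputable def eM (g : R) : R := eP (-g)

/-- The idempotent of the other eigenvalues. -/
noncomputable def eZ (g : R) : R := (g * g - 1) ^ idN R

theorem eP_idem (g : R) : eP g * eP g = eP g := by
  rw [eP, sub_mul, one_mul, mul_sub, mul_one, pow_idN, sub_self, sub_zero]

theorem eM_idem (g : R) : eM g * eM g = eM g := eP_idem _

theorem eZ_idem (g : R) : eZ g * eZ g = eZ g := pow_idN _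

theorem commute_eP {g x : R} (h : Commute x g) : Commute x (eP g) :=
  (Commute.one_right x).sub_right ((h.sub_right (Commute.one_right x)).pow_right _)

theorem commute_eM {g x : R} (h : Commute x g) : Commute x (eM g) := commute_eP h.neg_right

theorem commute_eZ {g x : R} (h : Commute x g) : Commute x (eZ g) :=
  ((h.mul_right h).sub_right (Commute.one_right x)).pow_right _

theorem eP_nilpotent (g : R) : ((g - 1) * eP g) ^ idN R = 0 := by
  have hc : Commute (g - 1) (eP g) := ((commute_eP (Commute.refl g)).sub_left (Commute.one_left _))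
  rw [hc.mul_pow]
  have h1 : eP g ^ idN R = eP g := by
    obtain ⟨k, hk⟩ : ∃ k, idN R = k + 1 := ⟨idN R - 1, by have := idN_pos R; omega⟩
    rw [hk]
    exact IsIdempotentElem.pow_succ_eq k (eP_idem g)
  rw [h1, eP, mul_sub, mul_one, pow_idN, sub_self]

theorem eM_eq (g : R) : eM g = 1 - (g + 1) ^ idN R := by
  rw [eM, eP, show -g - 1 = -(g + 1) by abel, (idN_even R).neg_pow]

theorem eP_mul_eM (h2 : IsUnit (2 : R)) (g : R) : eP g * eM g = 0 := by
  set f := eP g * eM g with hf
  have hc : Commute (eP g) (eM g) := commute_eM (commute_eP (Commute.refl g)).symm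
  have hff : f * f = f := by
    rw [hf, hc.symm.mul_mul_mul_comm, eP_idem, eM_idem]
  have hg1 : Commute g (eP g) := commute_eP (Commute.refl g)
  have hg2 : Commute g (eM g) := commute_eM (Commute.refl g)
  have hgf : Commute g f := hg1.mul_right hg2
  have hn1 : IsNilpotent ((g - 1) * f) := by
    rw [hf, ← mul_assoc]
    exact Commute.isNilpotent_mul_right ((hg2.sub_left (Commute.one_left _)).mul_left hc)
      ⟨_, eP_nilpotent g⟩
  have hn2 : IsNilpotent ((g + 1) * f) := by
    have h := eP_nilpotent (-g)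
    rw [hf, hc.eq, ← mul_assoc]
    refine Commute.isNilpotent_mul_right ((hg1.add_left (Commute.one_left _)).mul_left hc.symm) ?_
    refine ⟨idN R, ?_⟩
    rw [show (g + 1) * eM g = -((-g - 1) * eP (-g)) by rw [eM]; noncomm_ring, (idN_even R).neg_pow]
    exact h
  have hcc : Commute ((g + 1) * f) ((g - 1) * f) := by
    have hgp : Commute g (g - 1) := (Commute.refl g).sub_right (Commute.one_right g)
    have hgm : Commute (g + 1) (g - 1) := hgp.add_left (Commute.one_left _)
    exact Commute.mul_left (hgm.mul_right (hgf.add_left (Commute.one_left f)))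
      ((hgf.sub_left (Commute.one_left f)).symm.mul_right (Commute.refl f))
  obtain ⟨K, hK⟩ := hcc.isNilpotent_sub hn2 hn1
  have h2f : (g + 1) * f - (g - 1) * f = 2 * f := by noncomm_ring
  rw [h2f, (show Commute (2 : R) f from Commute.ofNat_left 2 f).mul_pow] at hK
  have hfK : f ^ K = 0 := (h2.pow K).mul_left_cancel (hK.trans (mul_zero _).symm)
  cases K with
  | zero =>
    rw [pow_zero] at hfK
    calc f = f * 1 := (mul_one f).symm
      _ = 0 := by rw [hfK, mul_zero]
  | succ k => rwa [IsIdempotentElem.pow_succ_eq k hff] at hfK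

theorem eM_mul_eP (h2 : IsUnit (2 : R)) (g : R) : eM g * eP g = 0 := by
  rw [(commute_eM (commute_eP (Commute.refl g)).symm).symm.eq, eP_mul_eM h2]

theorem eZ_eq (h2 : IsUnit (2 : R)) (g : R) : eZ g = 1 - eP g - eM g := by
  have hc : Commute (g - 1) (g + 1) :=
    ((Commute.refl g).sub_left (Commute.one_left g)).add_right (Commute.one_right _)
  have h : eZ g = (1 - eP g) * (1 - eM g) := by
    rw [eM_eq, eP, sub_sub_cancel, sub_sub_cancel, ← hc.mul_pow, eZ]
    congr 1
    noncomm_ring
  rw [h, mul_sub, mul_one, sub_mul, one_mul, eP_mul_eM h2, sub_zero]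

theorem semiconj_eP {g h c : R} (hc : c * g = h * c) : c * eP g = eP h * c := by
  have h1 : SemiconjBy c (g - 1) (h - 1) := by
    show c * (g - 1) = (h - 1) * c
    rw [mul_sub, sub_mul, hc, mul_one, one_mul]
  rw [eP, eP, mul_sub, sub_mul, mul_one, one_mul, (h1.pow_right (idN R)).eq]

theorem semiconj_eM {g h c : R} (hc : c * g = h * c) : c * eM g = eM h * c :=
  semiconj_eP (by rw [mul_neg, neg_mul, hc])

theorem semiconj_eZ {g h c : R} (hc : c * g = h * c) : c * eZ g = eZ h * c := by
  have h1 : SemiconjBy c (g * g - 1) (h * h - 1) := by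
    show c * (g * g - 1) = (h * h - 1) * c
    rw [mul_sub, sub_mul, ← mul_assoc, hc, mul_assoc, hc, ← mul_assoc, mul_one, one_mul]
  exact (h1.pow_right (idN R)).eq

end Ring

section Adj

variable {F : Type*} [Field F] [Fintype F] {m : ℕ}

local notation "R" => Matrix (Fin m ⊕ Fin m) (Fin m ⊕ Fin m) F

theorem adj_sub (X Y : R) : adj (X - Y) = adj X - adj Y := by
  rw [sub_eq_add_neg, adj_add, adj_neg, ← sub_eq_add_neg]

theorem adj_pow (X : R) : ∀ k : ℕ, adj (X ^ k) = adj X ^ k
  | 0 => by rw [pow_zero, pow_zero, adj_one]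
  | k + 1 => by rw [pow_succ', adj_mul, adj_pow X k, pow_succ]

theorem adj_eP {g : R} (hg : adj g * g = 1) : adj (eP g) = eP g := by
  have hg' : g * adj g = 1 := mul_eq_one_comm.1 hg
  have h1 : adj g - 1 = -(adj g * (g - 1)) := by rw [mul_sub, hg, mul_one, neg_sub]
  have hc : Commute (adj g) (g - 1) :=
    (show Commute (adj g) g from hg.trans hg'.symm).sub_right (Commute.one_right _)
  rw [eP, adj_sub, adj_one, adj_pow, adj_sub, adj_one, h1, (idN_even R).neg_pow, hc.mul_pow,
    pow_idN_unit (IsUnit.of_mul_eq_one (b := g) hg), one_mul]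

theorem adj_eM {g : R} (hg : adj g * g = 1) : adj (eM g) = eM g :=
  adj_eP (by rw [adj_neg, neg_mul_neg, hg])

theorem two_isUnit (h2 : (2 : F) ≠ 0) : IsUnit (2 : R) := by
  have h := h2.isUnit.map (algebraMap F R)
  rwa [map_ofNat] at h

theorem adj_eZ (h2 : (2 : F) ≠ 0) {g : R} (hg : adj g * g = 1) : adj (eZ g) = eZ g := by
  rw [eZ_eq (two_isUnit h2), adj_sub, adj_sub, adj_one, adj_eP hg, adj_eM hg]

end Adj

end Cfsg.Agent.Small.ClassNumberSp
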