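import Mathlib
import Cfsg.Agent.Lib.Small.ClassNumberSp.Split
import Cfsg.Agent.Lib.Small.ClassNumberU.Root
import Cfsg.Agent.Lib.Small.SpClassCount.Classes

/-!
Square roots of self-adjoint elements of a centraliser, part by part.
-/

set_option autoImplicit false
set_option linter.unusedSectionVars false
set_option linter.style.haveILetI false

namespace Cfsg.Agent.Small.ClassNumberSp

open Matrix Cfsg.Agent.Small.SymplecticSemisimple

variable {F : Type*} [Field F] [Fintype F] {m : ℕ}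

local notation "ι" => (Fin m ⊕ Fin m)
local notation "R" => Matrix (Fin m ⊕ Fin m) (Fin m ⊕ Fin m) F

theorem commute_adj {b M : R} (hb : adj b * b = 1) (hMc : Commute M b) : Commute M (adj b) := by
  have hb' : b * adj b = 1 := mul_eq_one_comm.1 hb
  calc M * adj b = adj b * b * M * adj b := by rw [hb, one_mul]
    _ = adj b * (M * b) * adj b := by rw [mul_assoc (adj b) b M, ← hMc.eq]
    _ = adj b * M := by rw [← mul_assoc, mul_assoc (adj b * M), hb', mul_one]

/-- On the part without eigenvalue one or minus one every fixed unit is a norm. -/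
theorem root_eZ (h2 : (2 : F) ≠ 0) {b M : R} (hb : adj b * b = 1) (hMc : Commute M b) (hMj : adj M = M)
    (hMu : IsUnit M) :
    ∃ y z : R, y * z = eZ b ∧ z * y = eZ b ∧ eZ b * y = y ∧ eZ b * z = z ∧ Commute y b ∧ Commute z b ∧
      adj y * y = M * eZ b := by
  classical
  set e := eZ b with he
  have idem : IsIdempotentElem e := eZ_idem b
  have hje : adj e = e := adj_eZ h2 hb
  have hb' : b * adj b = 1 := mul_eq_one_comm.1 hb
  have hbjb : Commute b (adj b) := hb'.trans hb.symm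
  have hbe : Commute b e := commute_eZ (Commute.refl b)
  have hMe : Commute M e := commute_eZ hMc
  have hjbe : Commute (adj b) e := commute_eZ hbjb.symm
  haveI : Finite idem.Corner := Subtype.finite
  let mk : ∀ x : R, Commute x e → idem.Corner := fun x hx => ⟨x * e, (Subsemigroup.mem_corner_iff idem).2
    ⟨by rw [← mul_assoc, ← hx.eq, mul_assoc, idem.eq], by rw [mul_assoc, idem.eq]⟩⟩
  have hmul : ∀ (x y : R) (hx : Commute x e) (hy : Commute y e),
      mk (x * y) (hx.mul_left hy) = mk x hx * mk y hy := fun x y hx hy =>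
    Subtype.ext (show x * y * e = x * e * (y * e) by
      rw [mul_assoc x e, ← mul_assoc e y, ← hy.eq, mul_assoc y e, idem.eq, mul_assoc])
  have hone : ∀ (x : R) (hx : Commute x e), x = 1 → mk x hx = 1 := fun x hx h =>
    Subtype.ext (show x * e = e by rw [h, one_mul])
  have hjmem : ∀ x : idem.Corner, adj x.1 ∈ Subsemigroup.corner e := fun x => by
    obtain ⟨h1, h2'⟩ := (Subsemigroup.mem_corner_iff idem).1 x.2
    refine (Subsemigroup.mem_corner_iff idem).2 ⟨?_, ?_⟩
    · conv_lhs => arg 1; rw [← hje]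
      rw [← adj_mul, h2']
    · conv_lhs => arg 2; rw [← hje]
      rw [← adj_mul, h1]
  let j : idem.Corner → idem.Corner := fun x => ⟨adj x.1, hjmem x⟩
  -- the element on which the involution is nowhere trivial
  have hjw : j (mk b hbe) = mk (adj b) hjbe := Subtype.ext (show adj (b * e) = adj b * e by
    rw [adj_mul, hje, hjbe.eq])
  have hjM : j (mk M hMe) = mk M hMe := Subtype.ext (show adj (M * e) = M * e by
    rw [adj_mul, hje, hMj, hMe.eq])
  have hAcomm : ∀ x ∈ ({mk b hbe, mk M hMe} : Set idem.Corner), ∀ y ∈ ({mk b hbe, mk M hMe} : Set idem.Corner),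
      x * y = y * x := by
    rintro x (rfl | rfl) y (rfl | rfl)
    · rfl
    · exact (hmul b M hbe hMe).symm.trans ((Subtype.ext (show b * M * e = M * b * e by rw [hMc.eq])).trans
        (hmul M b hMe hbe))
    · exact (hmul M b hMe hbe).symm.trans ((Subtype.ext (show M * b * e = b * M * e by rw [hMc.eq])).trans
        (hmul b M hbe hMe))
    · rfl
  let u : idem.Cornerˣ := ⟨mk b hbe, mk (adj b) hjbe, (hmul b _ hbe hjbe).symm.trans (hone _ (hbe.mul_left hjbe) hb'),
    (hmul _ b hjbe hbe).symm.trans (hone _ (hjbe.mul_left hbe) hb)⟩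
  have hMu' : IsUnit (mk M hMe) := by
    obtain ⟨v, rfl⟩ := hMu
    have hv : Commute ((v⁻¹ : Rˣ) : R) e := hMe.units_inv_left
    exact ⟨⟨mk (v : R) hMe, mk _ hv, (hmul _ _ hMe hv).symm.trans (hone _ (hMe.mul_left hv) v.mul_inv),
      (hmul _ _ hv hMe).symm.trans (hone _ (hv.mul_left hMe) v.inv_mul)⟩, rfl⟩
  obtain ⟨y, hy, hyu, hjy⟩ := ClassNumberU.exists_root j
    (fun x y => Subtype.ext (adj_add (X := x.1) (Y := y.1)))
    (fun x y => Subtype.ext (adj_mul (X := x.1) (Y := y.1)))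
    (Subtype.ext hje) (fun x => Subtype.ext adj_adj)
    {mk b hbe, mk M hMe} hAcomm
    (by
      rintro x (rfl | rfl)
      · rw [hjw]
        exact ClassNumberU.mem_of_unit_inv (x := u) _ (Subring.subset_closure (Or.inl rfl))
      · rw [hjM]; exact Subring.subset_closure (Or.inr rfl))
    (w := mk b hbe) (Or.inl rfl)
    (by
      rw [hjw]
      have hc1 : Commute (b * b - 1) e :=
        (hbe.mul_left hbe).sub_left (Commute.one_left e)
      have e1 : mk b hbe - mk (adj b) hjbe = mk (adj b) hjbe * mk (b * b - 1) hc1 := by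
        exact (Subtype.ext (show b * e - adj b * e = adj b * (b * b - 1) * e by
          rw [mul_sub, ← mul_assoc, hb, one_mul, mul_one, sub_mul])).trans (hmul _ _ hjbe hc1)
      rw [e1]
      refine (u⁻¹).isUnit.mul ?_
      obtain ⟨k, hk⟩ : ∃ k, idN R = k + 1 := ⟨idN R - 1, by have := idN_pos R; omega⟩
      have hc2 : Commute ((b * b - 1) ^ k) e := hc1.pow_left k
      refine ⟨⟨mk (b * b - 1) hc1, mk _ hc2, ?_, ?_⟩, rfl⟩
      · exact (hmul _ _ hc1 hc2).symm.trans (Subtype.ext (show (b * b - 1) * (b * b - 1) ^ k * e = e by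
          rw [← pow_succ', ← hk]; exact idem.eq))
      · exact (hmul _ _ hc2 hc1).symm.trans (Subtype.ext (show (b * b - 1) ^ k * (b * b - 1) * e = e by
          rw [← pow_succ, ← hk]; exact idem.eq)))
    (M := mk M hMe) (Or.inr rfl) hMu' hjM
  have hyc : ∀ x ∈ Subring.closure ({mk b hbe, mk M hMe} : Set idem.Corner), Commute x.1 b := by
    intro x hx
    induction hx using Subring.closure_induction with
    | mem x hx =>
      rcases hx with rfl | rfl
      · exact (Commute.refl b).mul_left hbe.symm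
      · exact hMc.mul_left hbe.symm
    | zero => exact Commute.zero_left b
    | one => exact hbe.symm
    | add x y _ _ ihx ihy => exact ihx.add_left ihy
    | neg x _ ihx => exact ihx.neg_left
    | mul x y _ _ ihx ihy => exact ihx.mul_left ihy
  obtain ⟨yu, rfl⟩ := hyu
  refine ⟨(yu : idem.Corner).1, (↑yu⁻¹ : idem.Corner).1, congrArg Subtype.val yu.mul_inv,
    congrArg Subtype.val yu.inv_mul, ((Subsemigroup.mem_corner_iff idem).1 (yu : idem.Corner).2).1,
    ((Subsemigroup.mem_corner_iff idem).1 (↑yu⁻¹ : idem.Corner).2).1, hyc _ hy,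
    hyc _ (ClassNumberU.mem_of_unit_inv _ hy), congrArg Subtype.val hjy⟩

/-- Congruence on the part without eigenvalue one or minus one. -/
theorem congr_eZ (h2 : (2 : F) ≠ 0) {b M M' : R} (hb : adj b * b = 1) (hMc : Commute M b) (hMj : adj M = M)
    (hMu : IsUnit M) (hMc' : Commute M' b) (hMj' : adj M' = M') (hMu' : IsUnit M') :
    ∃ Y : R, Commute Y b ∧ eZ b * Y = Y ∧ adj Y * M * Y = M' * eZ b := by
  obtain ⟨y₁, z₁, hyz, -, hey, hez, hy₁, hz₁, h₁⟩ := root_eZ h2 hb hMc hMj hMu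
  obtain ⟨y₂, z₂, -, -, hey₂, -, hy₂, -, h₂⟩ := root_eZ h2 hb hMc' hMj' hMu'
  refine ⟨z₁ * y₂, hz₁.mul_left hy₂, by rw [← mul_assoc, hez], ?_⟩
  calc adj (z₁ * y₂) * M * (z₁ * y₂) = adj y₂ * adj z₁ * (M * eZ b) * z₁ * y₂ := by
        rw [adj_mul]
        conv_lhs => rw [← hez]
        rw [hez]
        simp only [mul_assoc]
        rw [← mul_assoc (eZ b) z₁, hez]
    _ = adj y₂ * adj (y₁ * z₁) * (y₁ * z₁) * y₂ := by
        rw [← h₁, adj_mul (X := y₁) (Y := z₁)]; simp only [mul_assoc]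
    _ = adj y₂ * (eZ b * eZ b) * y₂ := by rw [hyz, adj_eZ h2 hb]; simp only [mul_assoc]
    _ = M' * eZ b := by rw [eZ_idem, mul_assoc, hey₂, h₂]

/-- Jordan coordinates on the part of eigenvalue one. -/
theorem exists_coords (b : R) :
    ∃ (t : ℕ) (d : Fin t → ℕ) (P : Matrix ((k : Fin t) × Fin (d k)) ι F)
      (Q : Matrix ι ((k : Fin t) × Fin (d k)) F),
      (∀ k, 1 ≤ d k) ∧ P * Q = 1 ∧ Q * P = eP b ∧ b * Q = Q * Cfsg.jordanTypeMatrix d F := by
  classical
  set e := eP b with he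
  have hbe : Commute b e := commute_eP (Commute.refl b)
  set A := b - 1 with hA
  have hAe : Commute A e := hbe.sub_left (Commute.one_left e)
  set Z := LinearMap.range (Matrix.toLin' e) with hZ
  have hfix : ∀ z ∈ Z, Matrix.toLin' e z = z := by
    rintro z ⟨y, rfl⟩
    rw [← LinearMap.comp_apply, ← Matrix.toLin'_mul, eP_idem]
  have hmaps : ∀ z ∈ Z, Matrix.toLin' A z ∈ Z := fun z hz => by
    refine ⟨Matrix.toLin' A z, ?_⟩
    rw [← LinearMap.comp_apply, ← Matrix.toLin'_mul, ← hAe.eq, Matrix.toLin'_mul, LinearMap.comp_apply, hfix z hz]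
  set N : Module.End F Z := (Matrix.toLin' A).restrict hmaps with hN
  have hNnil : IsNilpotent N := by
    refine ⟨idN R, LinearMap.ext fun z => ?_⟩
    have hpow : ∀ k, ((N ^ k) z : ι → F) = Matrix.toLin' ((A * e) ^ k) z.1 := by
      intro k
      induction k with
      | zero => rw [pow_zero, pow_zero, Matrix.toLin'_one]; rfl
      | succ k ih =>
        rw [pow_succ', Module.End.mul_apply, pow_succ', Matrix.toLin'_mul, LinearMap.comp_apply, ← ih,
          Matrix.toLin'_mul, LinearMap.comp_apply, hfix _ ((N ^ k) z).2]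
        rfl
    refine Subtype.ext ?_
    rw [hpow, eP_nilpotent, map_zero]
    rfl
  obtain ⟨t, k, bs, hbs⟩ := JordanType.exists_chain N hNnil
  let η := Fintype.equivFin {i // k i ≠ 0}
  let d : Fin (Fintype.card {i // k i ≠ 0}) → ℕ := fun l => k (η.symm l).1
  let f : ((l : Fin (Fintype.card {i // k i ≠ 0})) × Fin (d l)) → ((i : Fin t) × Fin (k i)) :=
    fun x => ⟨(η.symm x.1).1, x.2⟩
  have hf : Function.Bijective f := by
    constructor
    · rintro ⟨l, a⟩ ⟨l', a'⟩ h
      have h1 : (η.symm l).1 = (η.symm l').1 := congrArg Sigma.fst h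
      obtain rfl : l = l' := η.symm.injective (Subtype.ext h1)
      exact SpJordan.sig_ext d rfl (congrArg (fun y : (i : Fin t) × Fin (k i) => (y.2 : ℕ)) h)
    · rintro ⟨i, a⟩
      have hi : k i ≠ 0 := fun h => absurd a.isLt (by omega)
      have hl : (η.symm (η ⟨i, hi⟩)).1 = i := by rw [Equiv.symm_apply_apply]
      exact ⟨⟨η ⟨i, hi⟩, ⟨a, by show a.val < k _; rw [hl]; exact a.isLt⟩⟩, SpJordan.sig_ext k hl rfl⟩
  let E := Equiv.ofBijective f hf
  let ce : (ι → F) →ₗ[F] Z := LinearMap.codRestrict Z (Matrix.toLin' e) fun x => LinearMap.mem_range_self _ x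
  have hce : ∀ z : Z, ce z.1 = z := fun z => Subtype.ext (hfix z.1 z.2)
  let Q : Matrix ι ((l : Fin (Fintype.card {i // k i ≠ 0})) × Fin (d l)) F := fun r x => (bs (f x)).1 r
  let P : Matrix ((l : Fin (Fintype.card {i // k i ≠ 0})) × Fin (d l)) ι F :=
    fun x r => bs.repr (ce (Pi.single r 1)) (f x)
  have hQ : ∀ x, Q *ᵥ Pi.single x 1 = (bs (f x)).1 := fun x => by rw [Matrix.mulVec_single_one]; rfl
  have hP : ∀ v x, (P *ᵥ v) x = bs.repr (ce v) (f x) := fun v x => by
    have hv : v = ∑ r : Fin m ⊕ Fin m, v r • (Pi.single r (1 : F) : Fin m ⊕ Fin m → F) := pi_eq_sum_univ' v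
    conv_rhs => rw [hv]
    rw [map_sum, map_sum, Finsupp.finsetSum_apply]
    show ∑ r, P x r * v r = _
    refine Finset.sum_congr rfl fun r _ => ?_
    rw [map_smul, map_smul, Finsupp.smul_apply, smul_eq_mul, mul_comm]
  refine ⟨_, d, P, Q, fun l => Nat.one_le_iff_ne_zero.2 (η.symm l).2, ?_, ?_, ?_⟩
  · refine Matrix.ext_of_mulVec_single fun x => ?_
    rw [← Matrix.mulVec_mulVec, hQ, Matrix.one_mulVec]
    funext x'
    rw [hP, hce, Module.Basis.repr_self, Finsupp.single_apply, Pi.single_apply]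
    exact if_congr (hf.1.eq_iff.trans eq_comm) rfl rfl
  · refine Matrix.ext_of_mulVec_single fun r => ?_
    rw [← Matrix.mulVec_mulVec]
    have h1 : ((∑ x, (P *ᵥ Pi.single r 1) x • bs (f x) : Z) : ι → F) = Q *ᵥ (P *ᵥ Pi.single r 1) := by
      funext s
      rw [Submodule.coe_sum, Finset.sum_apply]
      exact Finset.sum_congr rfl fun x _ => mul_comm _ _
    have h2' : ∑ x, (P *ᵥ Pi.single r 1) x • bs (f x) = ce (Pi.single r 1) := by
      conv_rhs => rw [← bs.sum_repr (ce (Pi.single r 1))]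
      rw [← E.sum_comp]
      exact Finset.sum_congr rfl fun x _ => by rw [hP]; rfl
    rw [← h1, h2']
    exact Matrix.toLin'_apply e _
  · refine Matrix.ext_of_mulVec_single fun x => ?_
    rw [← Matrix.mulVec_mulVec, hQ, ← Matrix.mulVec_mulVec, JordanCent.jordan_eq, Matrix.add_mulVec,
      Matrix.one_mulVec, Matrix.mulVec_add, hQ, show b = 1 + A by rw [hA]; abel, Matrix.add_mulVec,
      Matrix.one_mulVec]
    congr 1
    have h1 : A *ᵥ (bs (f x)).1 = ((N (bs (f x)) : Z) : ι → F) := (Matrix.toLin'_apply A _).symm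
    rw [h1, hbs]
    by_cases hx : (x.2 : ℕ) + 1 < d x.1
    · rw [dif_pos (show ((f x).2 : ℕ) + 1 < k (f x).1 from hx)]
      have hcol : JordanCent.nilM F d *ᵥ Pi.single x 1 = Pi.single ⟨x.1, ⟨x.2 + 1, hx⟩⟩ 1 := by
        rw [Matrix.mulVec_single_one]
        funext y
        simp only [Matrix.col_apply, JordanCent.nilM, Pi.single_apply]
        refine if_congr ⟨?_, ?_⟩ rfl rfl
        · rintro ⟨h1, h2⟩; exact SpJordan.sig_ext d h1 h2
        · rintro rfl; exact ⟨rfl, rfl⟩
      rw [hcol, hQ]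
    · rw [dif_neg (show ¬ ((f x).2 : ℕ) + 1 < k (f x).1 from hx)]
      have hcol : JordanCent.nilM F d *ᵥ Pi.single x 1 = 0 := by
        rw [Matrix.mulVec_single_one]
        funext y
        obtain ⟨l, a⟩ := y
        simp only [Matrix.col_apply, JordanCent.nilM, Pi.zero_apply]
        rw [if_neg]
        rintro ⟨h1, h2⟩
        subst h1
        exact hx (by rw [← h2]; exact a.isLt)
      rw [hcol, Matrix.mulVec_zero]
      rfl

section Coords

variable {t : ℕ} {d : Fin t → ℕ} {P : Matrix ((k : Fin t) × Fin (d k)) (Fin m ⊕ Fin m) F}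
  {Q : Matrix (Fin m ⊕ Fin m) ((k : Fin t) × Fin (d k)) F} {b : Matrix (Fin m ⊕ Fin m) (Fin m ⊕ Fin m) F}

theorem P_mul (hPQ : P * Q = 1) (hQP : Q * P = eP b) : P * eP b = P := by
  rw [← hQP, ← Matrix.mul_assoc, hPQ, Matrix.one_mul]

theorem mul_Q (hPQ : P * Q = 1) (hQP : Q * P = eP b) : eP b * Q = Q := by
  rw [← hQP, Matrix.mul_assoc, hPQ, Matrix.mul_one]

theorem P_conj (hPQ : P * Q = 1) (hQP : Q * P = eP b) (hbQ : b * Q = Q * Cfsg.jordanTypeMatrix d F) :
    P * b = Cfsg.jordanTypeMatrix d F * P := by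
  calc P * b = P * (eP b * b) := by rw [← Matrix.mul_assoc, P_mul hPQ hQP]
    _ = P * (b * eP b) := by rw [(commute_eP (Commute.refl b)).eq]
    _ = P * (b * Q) * P := by rw [← hQP]; simp only [Matrix.mul_assoc]
    _ = _ := by rw [hbQ, ← Matrix.mul_assoc, hPQ, Matrix.one_mul]

/-- The form attached to a self-adjoint element. -/
theorem isForm_pull (hb : adj b * b = 1) (hPQ : P * Q = 1) (hQP : Q * P = eP b)
    (hbQ : b * Q = Q * Cfsg.jordanTypeMatrix d F) {M : R} (hMc : Commute M b) (hMj : adj M = M)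
    (hMu : IsUnit M) : SpClassCount.IsForm d (Qᵀ * Matrix.J (Fin m) F * M * Q) := by
  set J := Matrix.J (Fin m) F with hJ
  refine ⟨?_, ?_, ?_⟩
  · obtain ⟨u, rfl⟩ := hMu
    refine IsUnit.of_mul_eq_one (b := P * ((u⁻¹ : Rˣ) : R) * (-J) * Pᵀ) ?_
    have hue : Commute (u : R) (eP b) := commute_eP hMc
    calc Qᵀ * J * (u : R) * Q * (P * ((u⁻¹ : Rˣ) : R) * -J * Pᵀ)
        = Qᵀ * J * ((u : R) * (Q * P) * ((u⁻¹ : Rˣ) : R)) * -J * Pᵀ := by simp only [Matrix.mul_assoc]
      _ = Qᵀ * J * eP b * -J * Pᵀ := by rw [hQP, hue.eq, Matrix.mul_assoc (eP b), u.mul_inv, Matrix.mul_one]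
      _ = Qᵀ * (eP b)ᵀ * Pᵀ := by
          have h : (eP b)ᵀ = J * eP b * -J := by
            conv_rhs => rw [← adj_eP hb, adj, ← hJ]
            simp only [hJ, Matrix.neg_mul, Matrix.mul_neg, neg_neg, Matrix.mul_assoc, J_J_mul, Matrix.J_squared,
              Matrix.mul_one]
          rw [h]; simp only [Matrix.mul_assoc]
      _ = 1 := by rw [← Matrix.transpose_mul, mul_Q hPQ hQP, ← Matrix.transpose_mul, hPQ, Matrix.transpose_one]
  · have h1 : Mᵀ * J = J * M := by
      conv_rhs => rw [← hMj, adj, ← hJ, Matrix.mul_neg, ← Matrix.mul_assoc, ← Matrix.mul_assoc, hJ,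
        Matrix.J_squared, Matrix.neg_mul, Matrix.one_mul, Matrix.neg_mul, neg_neg]
    calc (Qᵀ * J * M * Q)ᵀ = -(Qᵀ * (Mᵀ * J) * Q) := by
          rw [Matrix.transpose_mul, Matrix.transpose_mul, Matrix.transpose_mul, Matrix.transpose_transpose, hJ,
            Matrix.J_transpose]
          simp only [Matrix.mul_neg, Matrix.neg_mul, Matrix.mul_assoc]
      _ = -(Qᵀ * J * M * Q) := by rw [h1]; simp only [Matrix.mul_assoc]
  · have hbs : bᵀ * J * b = J := SymplecticGroup.mem_iff'.1 (adj_mul_self_eq_one.1 hb)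
    show (Cfsg.jordanTypeMatrix d F)ᵀ * (Qᵀ * J * M * Q) * Cfsg.jordanTypeMatrix d F = Qᵀ * J * M * Q
    calc (Cfsg.jordanTypeMatrix d F)ᵀ * (Qᵀ * J * M * Q) * Cfsg.jordanTypeMatrix d F
        = (Q * Cfsg.jordanTypeMatrix d F)ᵀ * J * M * (Q * Cfsg.jordanTypeMatrix d F) := by
          simp only [Matrix.transpose_mul, Matrix.mul_assoc]
      _ = Qᵀ * (bᵀ * J * (M * b)) * Q := by
          rw [← hbQ]; simp only [Matrix.transpose_mul, Matrix.mul_assoc]
      _ = Qᵀ * (bᵀ * J * b) * M * Q := by rw [hMc.eq]; simp only [Matrix.mul_assoc]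
      _ = _ := by rw [hbs]

/-- Congruence on the part of eigenvalue one. -/
theorem congr_eP {p : ℕ} [Fact p.Prime] [CharP F p] (hp : p ≠ 2) (h2 : (2 : F) ≠ 0) (hd : ∀ k, 1 ≤ d k)
    (hb : adj b * b = 1) (hPQ : P * Q = 1) (hQP : Q * P = eP b) (hbQ : b * Q = Q * Cfsg.jordanTypeMatrix d F)
    {M M' : R} (hMc : Commute M b) (hMj : adj M = M) (hMu : IsUnit M)
    (hMc' : Commute M' b) (hMj' : adj M' = M') (hMu' : IsUnit M')
    (hbits : ∀ i, 1 ≤ i → Even i → IsSquare ((SpClassCount.btop d (Qᵀ * Matrix.J (Fin m) F * M * Q) i).det *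
      (SpClassCount.btop d (Qᵀ * Matrix.J (Fin m) F * M' * Q) i).det)) :
    ∃ Y : R, Commute Y b ∧ eP b * Y = Y ∧ adj Y * M * Y = M' * eP b := by
  obtain ⟨y, -, hy, hyW⟩ := (SpClassCount.congr_iff d hd hp h2 (isForm_pull hb hPQ hQP hbQ hMc hMj hMu)
    (isForm_pull hb hPQ hQP hbQ hMc' hMj' hMu')).2 hbits
  refine ⟨Q * y * P, ?_, by rw [← Matrix.mul_assoc, ← Matrix.mul_assoc, mul_Q hPQ hQP], ?_⟩
  · show Q * y * P * b = b * (Q * y * P)
    rw [Matrix.mul_assoc _ P, P_conj hPQ hQP hbQ, ← Matrix.mul_assoc b, ← Matrix.mul_assoc b, hbQ,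
      Matrix.mul_assoc Q _ y, ← (SpClassCount.comm_iff d).1 hy]
    simp only [Matrix.mul_assoc]
  · set J := Matrix.J (Fin m) F with hJ
    calc adj (Q * y * P) * M * (Q * y * P) = -(J * Pᵀ * (yᵀ * (Qᵀ * J * M * Q) * y) * P) := by
          simp only [adj, ← hJ, Matrix.transpose_mul, Matrix.mul_assoc, Matrix.neg_mul]
      _ = -(J * (Q * P)ᵀ * J) * M' * (Q * P) := by
          rw [hyW]; simp only [Matrix.transpose_mul, Matrix.mul_assoc, Matrix.neg_mul]
      _ = adj (eP b) * M' * eP b := by rw [hQP, adj]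
      _ = M' * eP b := by
          rw [adj_eP hb, ← (commute_eP hMc').eq, Matrix.mul_assoc, eP_idem]

theorem mem_range_eP_of_ker (r : ℕ) {x : ι → F} (hx : (b - 1) ^ r *ᵥ x = 0) : eP b *ᵥ x = x := by
  have hN : (b - 1) ^ idN R *ᵥ x = 0 := by
    have h1 : (b - 1) ^ idN R = ((b - 1) ^ idN R) ^ (r + 1) := (IsIdempotentElem.pow_succ_eq r (pow_idN _)).symm
    rw [h1, ← pow_mul, show idN R * (r + 1) = (idN R * (r + 1) - r) + r by
      have : r + 1 ≤ idN R * (r + 1) := Nat.le_mul_of_pos_left _ (idN_pos R)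
      omega, pow_add, ← Matrix.mulVec_mulVec, hx, Matrix.mulVec_zero]
  rw [eP, Matrix.sub_mulVec, Matrix.one_mulVec, hN, sub_zero]

/-- The kernels of the powers of `b - 1`. -/
theorem finrank_ker_sub_one (hPQ : P * Q = 1) (hQP : Q * P = eP b)
    (hbQ : b * Q = Q * Cfsg.jordanTypeMatrix d F) (r : ℕ) :
    Module.finrank F (LinearMap.ker (Matrix.toLin' ((b - 1) ^ r))) = ∑ k, min r (d k) := by
  classical
  have hpow : ∀ r : ℕ, (b - 1) ^ r * Q = Q * JordanCent.nilM F d ^ r := by
    intro r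
    induction r with
    | zero => rw [pow_zero, pow_zero, Matrix.one_mul, Matrix.mul_one]
    | succ r ih =>
      rw [pow_succ', pow_succ, Matrix.mul_assoc, ih, ← Matrix.mul_assoc, ← Matrix.mul_assoc, Matrix.sub_mul,
        hbQ, JordanCent.jordan_eq, Matrix.mul_add, Matrix.mul_one, Matrix.one_mul, add_sub_cancel_left,
        Matrix.mul_assoc Q, ← pow_succ', pow_succ, ← Matrix.mul_assoc]
  have hN : Module.finrank F (LinearMap.ker (Matrix.toLin' (JordanCent.nilM F d ^ r))) = ∑ k, min r (d k) := by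
    have hch : JordanType.IsChain (Matrix.toLin' (JordanCent.nilM F d))
        (Pi.basisFun F ((k : Fin t) × Fin (d k))) := by
      intro x
      rw [Pi.basisFun_apply, Matrix.toLin'_apply, Matrix.mulVec_single_one]
      split_ifs with h
      · rw [Pi.basisFun_apply]
        funext y
        simp only [Matrix.col_apply, JordanCent.nilM, Pi.single_apply]
        refine if_congr ⟨?_, ?_⟩ rfl rfl
        · rintro ⟨h1, h2⟩; exact SpJordan.sig_ext d h1 h2
        · rintro rfl; exact ⟨rfl, rfl⟩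
      · funext y
        obtain ⟨l, a⟩ := y
        simp only [Matrix.col_apply, JordanCent.nilM, Pi.zero_apply]
        rw [if_neg]
        rintro ⟨h1, h2⟩
        subst h1
        exact h (by rw [← h2]; exact a.isLt)
    have h1 := LinearMap.finrank_range_add_finrank_ker (Matrix.toLin' (JordanCent.nilM F d ^ r))
    have h2 := hch.finrank_range r
    rw [← Matrix.toLin'_pow] at h2
    rw [h2, Module.finrank_fintype_fun_eq_card, Fintype.card_sigma] at h1
    simp only [Fintype.card_fin] at h1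
    have h3 : ∑ k, (d k - r) + ∑ k, min r (d k) = ∑ k, d k := by
      rw [← Finset.sum_add_distrib]
      exact Finset.sum_congr rfl fun k _ => by omega
    omega
  rw [← hN]
  refine LinearEquiv.finrank_eq
    { toFun := fun x => ⟨P *ᵥ x.1, ?_⟩
      invFun := fun y => ⟨Q *ᵥ y.1, ?_⟩
      map_add' := fun x y => Subtype.ext (by simp [Matrix.mulVec_add])
      map_smul' := fun c x => Subtype.ext (by simp [Matrix.mulVec_smul])
      left_inv := fun x => Subtype.ext ?_
      right_inv := fun y => Subtype.ext ?_ }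
  · have hx := LinearMap.mem_ker.1 x.2
    rw [Matrix.toLin'_apply] at hx
    rw [LinearMap.mem_ker, Matrix.toLin'_apply, Matrix.mulVec_mulVec]
    have h1 : JordanCent.nilM F d ^ r * P = P * (b - 1) ^ r * (Q * P) := by
      rw [← Matrix.mul_assoc, Matrix.mul_assoc P, hpow, ← Matrix.mul_assoc P, hPQ, Matrix.one_mul]
    rw [h1, ← Matrix.mulVec_mulVec, hQP, mem_range_eP_of_ker r hx, ← Matrix.mulVec_mulVec, hx,
      Matrix.mulVec_zero]
  · have hy := LinearMap.mem_ker.1 y.2
    rw [Matrix.toLin'_apply] at hy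
    rw [LinearMap.mem_ker, Matrix.toLin'_apply, Matrix.mulVec_mulVec, hpow, ← Matrix.mulVec_mulVec, hy,
      Matrix.mulVec_zero]
  · have hx := LinearMap.mem_ker.1 x.2
    rw [Matrix.toLin'_apply] at hx
    show Q *ᵥ (P *ᵥ x.1) = x.1
    rw [Matrix.mulVec_mulVec, hQP, mem_range_eP_of_ker r hx]
  · show P *ᵥ (Q *ᵥ y.1) = y.1
    rw [Matrix.mulVec_mulVec, hPQ, Matrix.one_mulVec]

end Coords

end Cfsg.Agent.Small.ClassNumberSp
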