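import Mathlib
import Cfsg.Agent.Lib.Small.ClassNumberSp.Data

/-!
The classes of the symplectic group by parameters and square classes.
-/

set_option autoImplicit false
set_option linter.unusedSectionVars false
set_option linter.style.haveILetI false

namespace Cfsg.Agent.Small.ClassNumberSp

open Matrix Polynomial Cfsg.Agent.Small.SymplecticSemisimple Cfsg.Agent.Small.ClassNumber
  Cfsg.Agent.Small.ClassNumberU

attribute [local instance] starRingOfComm

universe u

variable {F : Type u} [Field F] [Fintype F] {m : ℕ}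

/-- the conditions on the parameter of one size -/
def Valid (k : ℕ) (x : F[X] × Bool × Bool) : Prop :=
  x.1.Monic ∧ x.1.coeff 0 ≠ 0 ∧ dual x.1 = x.1 ∧ (Odd k → Even x.1.natDegree ∧ x.1.coeff 0 = 1) ∧
    (x.2.1 = true → Even k ∧ x.1.eval 1 = 0) ∧ (x.2.2 = true → Even k ∧ x.1.eval (-1) = 0)

variable (F) in
/-- the parameters -/
def Seq (M n : ℕ) : Type u :=
  {x : Fin M → F[X] × Bool × Bool //
    (∀ k, Valid (k.val + 1) (x k)) ∧ ∑ k, (k.val + 1) * (x k).1.natDegree = n}

theorem isSquare_mul_of_iff {a b : F} (ha : a ≠ 0) (hb : b ≠ 0) (h : IsSquare a ↔ IsSquare b) :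
    IsSquare (a * b) := by
  classical
  by_cases hs : IsSquare a
  · exact hs.mul (h.1 hs)
  · rw [← quadraticChar_one_iff_isSquare (mul_ne_zero ha hb), map_mul,
      quadraticChar_neg_one_iff_not_isSquare.2 hs, quadraticChar_neg_one_iff_not_isSquare.2 fun h' => hs (h.2 h')]
    norm_num

/-- Joining the congruences of the parts. -/
theorem congr_total {p : ℕ} [Fact p.Prime] [CharP F p] (hp : p ≠ 2) (h2 : (2 : F) ≠ 0)
    {b M M' : Matrix (Fin m ⊕ Fin m) (Fin m ⊕ Fin m) F} (hb : adj b * b = 1) (hMc : Commute M b) (hMj : adj M = M)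
    (hMu : IsUnit M) (hMc' : Commute M' b) (hMj' : adj M' = M') (hMu' : IsUnit M')
    (hP : ∃ Y, Commute Y b ∧ eP b * Y = Y ∧ adj Y * M * Y = M' * eP b)
    (hN : ∃ Y, Commute Y b ∧ eM b * Y = Y ∧ adj Y * M * Y = M' * eM b) :
    ∃ Y, Commute Y b ∧ adj Y * M * Y = M' := by
  obtain ⟨Y₁, c₁, e₁, h₁⟩ := hP
  obtain ⟨Y₂, c₂, e₂, h₂⟩ := hN
  obtain ⟨Y₃, c₃, e₃, h₃⟩ := congr_eZ h2 hb hMc hMj hMu hMc' hMj' hMu'
  have hR := two_isUnit (F := F) (m := m) h2
  have oPM : eP b * eM b = 0 := eP_mul_eM hR b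
  have oMP : eM b * eP b = 0 := eM_mul_eP hR b
  have oPZ : eP b * eZ b = 0 := by rw [eZ_eq hR, mul_sub, mul_sub, mul_one, eP_idem, oPM, sub_self, sub_zero]
  have oMZ : eM b * eZ b = 0 := by rw [eZ_eq hR, mul_sub, mul_sub, mul_one, eM_idem, oMP, sub_zero, sub_self]
  have oZP : eZ b * eP b = 0 := by rw [eZ_eq hR, sub_mul, sub_mul, one_mul, eP_idem, oMP, sub_self, sub_zero]
  have oZM : eZ b * eM b = 0 := by rw [eZ_eq hR, sub_mul, sub_mul, one_mul, eM_idem, oPM, sub_zero, sub_self]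
  have cross : ∀ {e e' Y Y' : Matrix (Fin m ⊕ Fin m) (Fin m ⊕ Fin m) F}, adj e = e → Commute M e →
      e * Y = Y → e' * Y' = Y' → e * e' = 0 → adj Y * M * Y' = 0 := by
    intro e e' Y Y' he hc hY hY' h0
    rw [← hY, ← hY', adj_mul, he]
    calc adj Y * e * M * (e' * Y') = adj Y * (M * e) * (e' * Y') := by rw [hc.eq, mul_assoc (adj Y)]
      _ = adj Y * M * (e * e') * Y' := by simp only [mul_assoc]
      _ = 0 := by rw [h0, mul_zero, zero_mul]
  refine ⟨Y₁ + Y₂ + Y₃, (c₁.add_left c₂).add_left c₃, ?_⟩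
  have jP := adj_eP hb
  have jM := adj_eM hb
  have jZ := adj_eZ h2 hb
  have mP : Commute M (eP b) := commute_eP hMc
  have mM : Commute M (eM b) := commute_eM hMc
  have mZ : Commute M (eZ b) := commute_eZ hMc
  simp only [adj_add, add_mul, mul_add, h₁, h₂, h₃, cross jP mP e₁ e₂ oPM, cross jP mP e₁ e₃ oPZ,
    cross jM mM e₂ e₁ oMP, cross jM mM e₂ e₃ oMZ, cross jZ mZ e₃ e₁ oZP, cross jZ mZ e₃ e₂ oZM, add_zero, zero_add]
  rw [eZ_eq hR, ← mul_add, ← mul_add]
  rw [show eP b + eM b + (1 - eP b - eM b) = 1 by abel, mul_one]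

/-- The classes are injected into the parameters. -/
theorem exists_injective_classes (hodd : Odd (Fintype.card F)) :
    ∃ f : ConjClasses ↥(Matrix.symplecticGroup (Fin m) F) → Seq F (2 * m) (2 * m), Function.Injective f := by
  classical
  obtain ⟨⟨e, he⟩, hpp, hcard⟩ := FiniteField.card F (ringChar F)
  set p := ringChar F with hp_def
  haveI : Fact p.Prime := ⟨hpp⟩
  haveI : CharP F p := ringChar.charP F
  have hp : p ≠ 2 := fun h => by
    rw [hcard, h] at hodd
    exact Nat.not_odd_iff_even.2 (Nat.even_pow.2 ⟨even_two, (Nat.pos_of_ne_zero (Nat.ne_of_gt he)).ne'⟩) hodd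
  have h2 : (2 : F) ≠ 0 := Ring.two_ne_zero hp
  choose t d P Q hd hPQ hQP hbQ using fun b : Matrix (Fin m ⊕ Fin m) (Fin m ⊕ Fin m) F => exists_coords b
  let key : ↥(Matrix.symplecticGroup (Fin m) F) → (Fin (2 * m) → F[X]) := fun g => (dataOf (toGL g)).1
  let base : (Fin (2 * m) → F[X]) → ↥(Matrix.symplecticGroup (Fin m) F) := Function.invFun key
  let B : ↥(Matrix.symplecticGroup (Fin m) F) → ↥(Matrix.symplecticGroup (Fin m) F) := fun g => base (key g)
  have hkey : ∀ g, key (B g) = key g := fun g => Function.invFun_eq (f := key) ⟨g, rfl⟩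
  have hex : ∀ g, ∃ c : Matrix (Fin m ⊕ Fin m) (Fin m ⊕ Fin m) F, IsUnit c ∧ c * (B g).1 = g.1 * c := by
    intro g
    obtain ⟨x, hx⟩ := isConj_iff.1 (isConj_of_data (g := toGL (B g)) (g' := toGL g) (Subtype.ext (hkey g)))
    refine ⟨(Matrix.reindexAlgEquiv F F (e0 m)).symm x.1, x.isUnit.map _, ?_⟩
    have h := congrArg (fun y : GL (Fin (2 * m)) F => (Matrix.reindexAlgEquiv F F (e0 m)).symm y.1)
      (mul_inv_eq_iff_eq_mul.1 hx)
    simp only [Units.val_mul, map_mul, toGL_symm] at h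
    exact h
  choose c hcu hc using hex
  let M : ↥(Matrix.symplecticGroup (Fin m) F) → Matrix (Fin m ⊕ Fin m) (Fin m ⊕ Fin m) F :=
    fun g => adj (c g) * c g
  have hgJ : ∀ g : ↥(Matrix.symplecticGroup (Fin m) F), adj g.1 * g.1 = 1 := fun g => adj_mul_self_eq_one.2 g.2
  have hMc : ∀ g, Commute (M g) (B g).1 := by
    intro g
    have h1 : adj (B g).1 * adj (c g) = adj (c g) * adj g.1 := by rw [← adj_mul, hc g, adj_mul]
    have h3 : adj (c g) * g.1 = (B g).1 * adj (c g) := by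
      calc adj (c g) * g.1 = (B g).1 * adj (B g).1 * adj (c g) * g.1 := by
            rw [mul_eq_one_comm.1 (hgJ (B g)), one_mul]
        _ = (B g).1 * adj (c g) * (adj g.1 * g.1) := by rw [mul_assoc (B g).1, h1]; simp only [mul_assoc]
        _ = _ := by rw [hgJ, mul_one]
    show adj (c g) * c g * (B g).1 = (B g).1 * (adj (c g) * c g)
    rw [mul_assoc, hc g, ← mul_assoc, h3, mul_assoc]
  have hMj : ∀ g, adj (M g) = M g := fun g => by rw [adj_mul, adj_adj]
  have hMu : ∀ g, IsUnit (M g) := by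
    intro g
    refine IsUnit.mul ?_ (hcu g)
    obtain ⟨u, hu⟩ := hcu g
    refine IsUnit.of_mul_eq_one (b := adj ((u⁻¹ : _ˣ) : Matrix (Fin m ⊕ Fin m) (Fin m ⊕ Fin m) F)) ?_
    rw [← adj_mul, ← hu, u.inv_mul, adj_one]
  let form : ∀ (ε : F) (g : ↥(Matrix.symplecticGroup (Fin m) F)),
      Matrix ((k : Fin (t (ε • (B g).1))) × Fin (d (ε • (B g).1) k))
        ((k : Fin (t (ε • (B g).1))) × Fin (d (ε • (B g).1) k)) F :=
    fun ε g => (Q (ε • (B g).1))ᵀ * Matrix.J (Fin m) F * M g * Q (ε • (B g).1)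
  let bit : F → ↥(Matrix.symplecticGroup (Fin m) F) → Fin (2 * m) → Bool := fun ε g k =>
    decide ((∃ l, d (ε • (B g).1) l = k.val + 1) ∧ Even (k.val + 1) ∧
      IsSquare (SpClassCount.btop (d (ε • (B g).1)) (form ε g) (k.val + 1)).det)
  have hsq : ∀ ε : F, ε = 1 ∨ ε = -1 → ε * ε = 1 := by rintro ε (rfl | rfl) <;> simp
  have hvalid : ∀ g k, Valid (k.val + 1) (key g k, bit 1 g k, bit (-1) g k) := by
    intro g k
    have hroot : ∀ ε, ε * ε = (1 : F) → bit ε g k = true → Even (k.val + 1) ∧ (key g k).eval ε = 0 := by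
      intro ε hε h
      obtain ⟨hl, hev, -⟩ := of_decide_eq_true h
      refine ⟨hev, ?_⟩
      rw [← hkey g]
      exact eval_eq_zero_of_block (B g) hε (hPQ _) (hQP _) (hbQ _) k hl
    exact ⟨((dataOf (toGL g)).2.1 k).1, ((dataOf (toGL g)).2.1 k).2, dataOf_selfDual_sp g k, odd_part h2 g k,
      hroot 1 (one_mul 1), hroot (-1) (by ring)⟩
  let rep : ConjClasses ↥(Matrix.symplecticGroup (Fin m) F) → ↥(Matrix.symplecticGroup (Fin m) F) :=
    fun C => (ConjClasses.exists_rep C).choose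
  refine ⟨fun C => ⟨fun k => (key (rep C) k, bit 1 (rep C) k, bit (-1) (rep C) k), hvalid (rep C),
    (dataOf (toGL (rep C))).2.2⟩, fun C C' h => ?_⟩
  rw [← (ConjClasses.exists_rep C).choose_spec, ← (ConjClasses.exists_rep C').choose_spec,
    ConjClasses.mk_eq_mk_iff_isConj]
  show IsConj (rep C) (rep C')
  set g := rep C with hg
  set g' := rep C' with hg'
  have h' := congrArg Subtype.val h
  have hk : key g = key g' := funext fun k => congrArg Prod.fst (congrFun h' k)
  have hB : B g' = B g := congrArg base hk.symm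
  have hb1 : ∀ k, bit 1 g k = bit 1 g' k := fun k => congrArg (fun x => x.2.1) (congrFun h' k)
  have hb2 : ∀ k, bit (-1) g k = bit (-1) g' k := fun k => congrArg (fun x => x.2.2) (congrFun h' k)
  have hMc' : Commute (M g') (B g).1 := hB ▸ hMc g'
  have hparts : ∀ ε : F, ε = 1 ∨ ε = -1 → (∀ k, bit ε g k = bit ε g' k) → ∃ Y, Commute Y (B g).1 ∧
      eP (ε • (B g).1) * Y = Y ∧ adj Y * M g * Y = M g' * eP (ε • (B g).1) := by
    intro ε hε hbit
    set b := ε • (B g).1 with hbdef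
    have hb : adj b * b = 1 := adj_smul_mul (hsq ε hε) (hgJ (B g))
    obtain ⟨Y, hY, heY, hYM⟩ := congr_eP hp h2 (hd b) hb (hPQ b) (hQP b) (hbQ b) ((hMc g).smul_right ε) (hMj g)
      (hMu g) (hMc'.smul_right ε) (hMj g') (hMu g') (fun i hi hev => by
        by_cases hl : ∃ l, d b l = i
        · have hin : i ≤ 2 * m := by
            by_contra hlt
            have h0 := count_part_linear (B g) (hsq ε hε) (hPQ b) (hQP b) (hbQ b) hi
            rw [(decompOf (toGL (B g))).part_large (by rw [finrank_fin]; omega), Multiset.count_zero] at h0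
            obtain ⟨l, hl⟩ := hl
            exact (Finset.card_pos.2 ⟨l, Finset.mem_filter.2 ⟨Finset.mem_univ _, hl⟩⟩).ne h0
          obtain ⟨k, hk'⟩ : ∃ k : Fin (2 * m), i = k.val + 1 := ⟨⟨i - 1, by omega⟩, by simp only; omega⟩
          subst hk'
          have hW := isForm_pull hb (hPQ b) (hQP b) (hbQ b) ((hMc g).smul_right ε) (hMj g) (hMu g)
          have hW' := isForm_pull hb (hPQ b) (hQP b) (hbQ b) (hMc'.smul_right ε) (hMj g') (hMu g')
          refine isSquare_mul_of_iff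
            (SpClassCount.isUnit_btop _ (hd b) hW.inv ((Matrix.isUnit_iff_isUnit_det _).1 hW.unit) hi).ne_zero
            (SpClassCount.isUnit_btop _ (hd b) hW'.inv ((Matrix.isUnit_iff_isUnit_det _).1 hW'.unit) hi).ne_zero ?_
          have key2 : ∀ B' : ↥(Matrix.symplecticGroup (Fin m) F), B' = B g →
              decide ((∃ l, d (ε • B'.1) l = k.val + 1) ∧ Even (k.val + 1) ∧
                IsSquare (SpClassCount.btop (d (ε • B'.1))
                  ((Q (ε • B'.1))ᵀ * Matrix.J (Fin m) F * M g' * Q (ε • B'.1)) (k.val + 1)).det) =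
              decide ((∃ l, d b l = k.val + 1) ∧ Even (k.val + 1) ∧
                IsSquare (SpClassCount.btop (d b) ((Q b)ᵀ * Matrix.J (Fin m) F * M g' * Q b) (k.val + 1)).det) := by
            rintro B' rfl
            rfl
          have h3 := decide_eq_decide.1 ((hbit k).trans (key2 (B g') hB))
          exact ⟨fun hs => (h3.1 ⟨hl, hev, hs⟩).2.2, fun hs => (h3.2 ⟨hl, hev, hs⟩).2.2⟩
        · haveI : IsEmpty {l // d b l = i} := ⟨fun l => hl ⟨l.1, l.2⟩⟩
          rw [Matrix.det_isEmpty, Matrix.det_isEmpty, one_mul]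
          exact IsSquare.one)
    refine ⟨Y, ?_, heY, hYM⟩
    have := hY.smul_right ε
    rwa [hbdef, smul_smul, hsq ε hε, one_smul] at this
  obtain ⟨Y, hY, hYM⟩ := congr_total hp h2 (hgJ (B g)) (hMc g) (hMj g) (hMu g) hMc' (hMj g') (hMu g')
    (by simpa only [one_smul] using hparts 1 (Or.inl rfl) hb1)
    (by simpa only [neg_smul, one_smul, eM] using hparts (-1) (Or.inr rfl) hb2)
  obtain ⟨u, hu⟩ := hcu g'
  set u' := ((u⁻¹ : _ˣ) : Matrix (Fin m ⊕ Fin m) (Fin m ⊕ Fin m) F) with hu'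
  have huu : c g' * u' = 1 := by rw [← hu, hu', u.mul_inv]
  have huu' : u' * c g' = 1 := by rw [← hu, hu', u.inv_mul]
  have hX : c g * Y * u' ∈ Matrix.symplecticGroup (Fin m) F := by
    refine adj_mul_self_eq_one.1 ?_
    calc adj (c g * Y * u') * (c g * Y * u') = adj u' * (adj Y * M g * Y) * u' := by
          simp only [M, adj_mul, mul_assoc]
      _ = adj u' * (adj (c g') * c g') * u' := by rw [hYM]
      _ = adj (c g' * u') * (c g' * u') := by simp only [adj_mul, mul_assoc]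
      _ = 1 := by rw [huu, adj_one, mul_one]
  have hbu : (B g).1 * u' = u' * g'.1 := by
    have h1 := hc g'
    rw [hB] at h1
    calc (B g).1 * u' = u' * (c g' * (B g).1) * u' := by rw [← mul_assoc u', huu', one_mul]
      _ = u' * g'.1 * (c g' * u') := by rw [h1]; simp only [mul_assoc]
      _ = _ := by rw [huu, mul_one]
  refine (isConj_iff.2 ⟨⟨_, hX⟩, mul_inv_eq_iff_eq_mul.2 (Subtype.ext ?_)⟩).symm
  show c g * Y * u' * g'.1 = g.1 * (c g * Y * u')
  calc c g * Y * u' * g'.1 = c g * (Y * (B g).1) * u' := by rw [mul_assoc _ u', ← hbu]; simp only [mul_assoc]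
    _ = c g * (B g).1 * Y * u' := by rw [hY.eq]; simp only [mul_assoc]
    _ = _ := by rw [hc g]; simp only [mul_assoc]

end Cfsg.Agent.Small.ClassNumberSp
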