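import Mathlib
import Cfsg.Agent.Lib.Small.ClassNumberSp.Classes
import Cfsg.Agent.Lib.Small.ClassNumberU.Count

/-!
Counting the parameters of given shape.
-/

set_option autoImplicit false
set_option linter.unusedSectionVars false
set_option linter.style.haveILetI false

namespace Cfsg.Agent.Small.ClassNumberSp

open Polynomial Cfsg.Agent.Small.ClassNumberU

attribute [local instance] starRingOfComm

universe u

/-- self-dual polynomials of a given degree -/
def nb (q d : ℕ) : ℕ := if d = 0 then 1 else if Even d then q ^ (d / 2) + q ^ (d / 2 - 1) else 2 * q ^ (d / 2)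

/-- weight of one even part size -/
def wEven (q d : ℕ) : ℕ :=
  nb q d + 2 * (if 1 ≤ d then nb q (d - 1) else 0) + (if 2 ≤ d then nb q (d - 2) else 0)

/-- weight of one odd part size -/
def wOdd (q d : ℕ) : ℕ := if Even d then q ^ (d / 2) else 0

/-- weight of a part size -/
def wSp (q k d : ℕ) : ℕ := if Odd k then wOdd q d else wEven q d

variable {F : Type u} [Field F] [Fintype F]

variable (F) in
/-- self-dual polynomials -/
def SD (d : ℕ) : Type u := {G : F[X] // G.Monic ∧ G.coeff 0 ≠ 0 ∧ dual G = G ∧ G.natDegree = d}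

theorem eq_of_coeff {d : ℕ} {G H : F[X]} (hG : G.natDegree = d) (hH : H.natDegree = d)
    (h : ∀ i ≤ d, G.coeff i = H.coeff i) : G = H := by
  refine Polynomial.ext fun i => ?_
  by_cases hi : i ≤ d
  · exact h i hi
  · rw [coeff_eq_zero_of_natDegree_lt (by omega), coeff_eq_zero_of_natDegree_lt (by omega)]

instance instFiniteSD (d : ℕ) : Finite (SD F d) :=
  Finite.of_injective (fun G : SD F d => fun i : Fin (d + 1) => G.1.coeff i) fun G H h =>
    Subtype.ext (eq_of_coeff G.2.2.2.2 H.2.2.2.2 fun i hi => congrFun h ⟨i, by omega⟩)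

theorem coeff_symm {d : ℕ} (G : SD F d) :
    G.1.coeff 0 * G.1.coeff 0 = 1 ∧ ∀ i ≤ d, G.1.coeff i = G.1.coeff 0 * G.1.coeff (d - i) := by
  obtain ⟨G, hm, h0, hd, hdeg⟩ := G
  have h : ∀ i ≤ d, G.coeff i = (G.coeff 0)⁻¹ * G.coeff (d - i) := fun i hi => by
    conv_lhs => rw [← hd]
    rw [coeff_dual G (hdeg ▸ hi), hdeg]
    rfl
  have hc : (G.coeff 0)⁻¹ = G.coeff 0 := by
    conv_rhs => rw [h 0 (Nat.zero_le _), Nat.sub_zero, ← hdeg, hm.coeff_natDegree, mul_one]
  refine ⟨?_, fun i hi => ?_⟩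
  · show G.coeff 0 * G.coeff 0 = 1
    conv_lhs => arg 1; rw [← hc]
    exact inv_mul_cancel₀ h0
  · show G.coeff i = G.coeff 0 * G.coeff (d - i)
    rw [h i hi, hc]

theorem card_SD_const {d L : ℕ} (c : F)
    (hL : ∀ G : SD F d, G.1.coeff 0 = c → ∀ i, L < i → 2 * i ≤ d → G.1.coeff i = 0) :
    Nat.card {G : SD F d // G.1.coeff 0 = c} ≤ Fintype.card F ^ L := by
  refine le_of_le_of_eq (Nat.card_le_card_of_injective
    (fun G : {G : SD F d // G.1.coeff 0 = c} => fun i : Fin L => G.1.1.coeff (i.val + 1)) fun G H h => ?_) ?_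
  · have hlow : ∀ i, 2 * i ≤ d → G.1.1.coeff i = H.1.1.coeff i := fun i hi => by
      rcases Nat.eq_zero_or_pos i with rfl | hi0
      · rw [G.2, H.2]
      rcases Nat.lt_or_ge L i with hlt | hge
      · rw [hL G.1 G.2 i hlt hi, hL H.1 H.2 i hlt hi]
      · have := congrFun h ⟨i - 1, by omega⟩
        simpa only [Nat.sub_add_cancel hi0] using this
    refine Subtype.ext (Subtype.ext (eq_of_coeff G.1.2.2.2.2 H.1.2.2.2.2 fun i hi => ?_))
    rcases Nat.lt_or_ge d (2 * i) with hlt | hge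
    · rw [(coeff_symm G.1).2 i hi, (coeff_symm H.1).2 i hi, G.2, H.2, hlow (d - i) (by omega)]
    · exact hlow i hge
  · rw [Nat.card_fun, Nat.card_eq_fintype_card, Nat.card_eq_fintype_card, Fintype.card_fin]

theorem card_SD (h2 : (2 : F) ≠ 0) (d : ℕ) : Nat.card (SD F d) ≤ nb (Fintype.card F) d := by
  classical
  have hsplit : Nat.card (SD F d) ≤
      Nat.card {G : SD F d // G.1.coeff 0 = 1} + Nat.card {G : SD F d // G.1.coeff 0 = -1} := by
    rw [← Nat.card_sum]
    refine Nat.card_le_card_of_surjective (Sum.elim Subtype.val Subtype.val) fun G => ?_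
    rcases mul_self_eq_one_iff.1 (coeff_symm G).1 with h | h
    · exact ⟨Sum.inl ⟨G, h⟩, rfl⟩
    · exact ⟨Sum.inr ⟨G, h⟩, rfl⟩
  refine hsplit.trans ?_
  have h1 : Nat.card {G : SD F d // G.1.coeff 0 = 1} ≤ Fintype.card F ^ (d / 2) :=
    card_SD_const 1 fun G _ i hi hd => absurd hd (by omega)
  rcases Nat.eq_zero_or_pos d with rfl | hd0
  · haveI : IsEmpty {G : SD F 0 // G.1.coeff 0 = -1} := ⟨fun G => h2 (by
      have h := G.2
      rw [G.1.2.1.natDegree_eq_zero.1 G.1.2.2.2.2, coeff_one_zero] at h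
      linear_combination h)⟩
    rw [Nat.card_of_isEmpty (α := {G : SD F 0 // G.1.coeff 0 = -1}), add_zero, nb, if_pos rfl]
    simpa using h1
  · rw [nb, if_neg hd0.ne']
    rcases Nat.even_or_odd d with he | ho
    · rw [if_pos he]
      obtain ⟨j, hj⟩ := he
      refine Nat.add_le_add h1 (card_SD_const (-1) fun G hc i hi hd => ?_)
      have h := (coeff_symm G).2 i (by omega)
      rw [hc, show d - i = i by omega] at h
      exact (mul_eq_zero.1 (show (2 : F) * G.1.coeff i = 0 by linear_combination h)).resolve_left h2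
    · rw [if_neg (Nat.not_even_iff_odd.2 ho), two_mul]
      exact Nat.add_le_add h1 (card_SD_const (-1) fun G _ i hi hd => absurd hd (by omega))

theorem card_SD_dvd (h2 : (2 : F) ≠ 0) (d : ℕ) {P : F[X]} (hP : P.Monic) (hP0 : P.coeff 0 ≠ 0) (hPd : dual P = P)
    {δ : ℕ} (hδ : P.natDegree = δ) :
    Nat.card {G : SD F d // P ∣ G.1} ≤ if δ ≤ d then nb (Fintype.card F) (d - δ) else 0 := by
  split_ifs with hle
  · refine le_trans ?_ (card_SD h2 (d - δ))
    have hq : ∀ G : {G : SD F d // P ∣ G.1}, ∃ H : SD F (d - δ), G.1.1 = P * H.1 := by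
      intro G
      obtain ⟨H, hH⟩ := G.2
      obtain ⟨hm, h0, hd, hdeg⟩ := G.1.2
      have hHm : H.Monic := hP.of_mul_monic_left (hH ▸ hm)
      rw [hH, mul_coeff_zero] at h0
      rw [hH, dual_mul, hPd] at hd
      rw [hH, hP.natDegree_mul hHm, hδ] at hdeg
      exact ⟨⟨H, hHm, right_ne_zero_of_mul h0, mul_left_cancel₀ hP.ne_zero hd, by omega⟩, hH⟩
    choose f hf using hq
    refine Nat.card_le_card_of_injective f fun G G' h => Subtype.ext (Subtype.ext ?_)
    rw [hf G, hf G', h]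
  · haveI : IsEmpty {G : SD F d // P ∣ G.1} := ⟨fun G => hle (by
      have := natDegree_le_of_dvd G.2 G.1.2.1.ne_zero
      rw [hδ, G.1.2.2.2.2] at this
      exact this)⟩
    rw [Nat.card_of_isEmpty]

theorem dual_linear {c : F} (hc : c * c = 1) : dual (X - C c) = X - C c := by
  have hc0 : c ≠ 0 := fun h => by simp [h] at hc
  refine eq_of_coeff (d := 1) ((dual_spec (monic_X_sub_C c) (by simp [hc0])).2.1.trans (natDegree_X_sub_C c))
    (natDegree_X_sub_C c) fun i hi => ?_
  rw [coeff_dual _ (by rw [natDegree_X_sub_C]; exact hi), natDegree_X_sub_C]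
  show ((X - C c).coeff 0)⁻¹ * (X - C c).coeff (1 - i) = _
  have hinv : c⁻¹ = c := inv_eq_of_mul_eq_one_right hc
  rcases (show i = 0 ∨ i = 1 by omega) with rfl | rfl
  · simp [inv_neg, hinv]
  · simp [inv_neg, hinv, hc]

variable (F) in
/-- parameters of one size and degree -/
def Fibre (k d : ℕ) : Type u := {x : F[X] × Bool × Bool // Valid k x ∧ x.1.natDegree = d}

/-- the polynomial of a fibre element -/
def Fibre.toSD {k d : ℕ} (x : Fibre F k d) : SD F d := ⟨x.1.1, x.2.1.1, x.2.1.2.1, x.2.1.2.2.1, x.2.2⟩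

instance instFiniteFibre (k d : ℕ) : Finite (Fibre F k d) :=
  Finite.of_injective (fun x : Fibre F k d => (x.toSD, x.1.2)) fun _ _ h =>
    Subtype.ext (Prod.ext (congrArg (fun y => y.1.1) h) (congrArg Prod.snd h :))

theorem card_fibre (h2 : (2 : F) ≠ 0) (k d : ℕ) : Nat.card (Fibre F k d) ≤ wSp (Fintype.card F) k d := by
  classical
  rcases Nat.even_or_odd k with he | ho
  · rw [wSp, if_neg (Nat.not_odd_iff_even.2 he)]
    have hone : (X - C (1 : F)).natDegree = 1 := natDegree_X_sub_C _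
    have hneg : (X - C (-1 : F)).natDegree = 1 := natDegree_X_sub_C _
    have hm1 := monic_X_sub_C (1 : F)
    have hm2 := monic_X_sub_C (-1 : F)
    have h01 : (X - C (1 : F)).coeff 0 ≠ 0 := by simp
    have h02 : (X - C (-1 : F)).coeff 0 ≠ 0 := by simp
    have hd1 := dual_linear (F := F) (one_mul 1)
    have hd2 := dual_linear (F := F) (c := -1) (by ring)
    let T := SD F d ⊕ {G : SD F d // (X - C (1 : F)) ∣ G.1} ⊕ {G : SD F d // (X - C (-1 : F)) ∣ G.1} ⊕
      {G : SD F d // (X - C (1 : F)) * (X - C (-1 : F)) ∣ G.1}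
    have hcop : IsCoprime (X - C (1 : F)) (X - C (-1 : F)) :=
      isCoprime_X_sub_C_of_isUnit_sub (by rw [sub_neg_eq_add, one_add_one_eq_two]; exact h2.isUnit)
    have hd1' : ∀ x : Fibre F k d, x.1.2.1 = true → (X - C (1 : F)) ∣ x.1.1 := fun x h =>
      dvd_iff_isRoot.2 (x.2.1.2.2.2.2.1 h).2
    have hd2' : ∀ x : Fibre F k d, x.1.2.2 = true → (X - C (-1 : F)) ∣ x.1.1 := fun x h =>
      dvd_iff_isRoot.2 (x.2.1.2.2.2.2.2 h).2
    let f : Fibre F k d → T := fun x =>
      if h1 : x.1.2.1 = true then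
        if h3 : x.1.2.2 = true then Sum.inr (Sum.inr (Sum.inr ⟨x.toSD, hcop.mul_dvd (hd1' x h1) (hd2' x h3)⟩))
        else Sum.inr (Sum.inl ⟨x.toSD, hd1' x h1⟩)
      else
        if h3 : x.1.2.2 = true then Sum.inr (Sum.inr (Sum.inl ⟨x.toSD, hd2' x h3⟩))
        else Sum.inl x.toSD
    have hle : Nat.card (Fibre F k d) ≤ Nat.card T := by
      let dec : T → F[X] × Bool × Bool := Sum.elim (fun G => (G.1, false, false))
        (Sum.elim (fun G => (G.1.1, true, false)) (Sum.elim (fun G => (G.1.1, false, true)) fun G => (G.1.1, true, true)))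
      have hdec : ∀ x, dec (f x) = x.1 := fun x => by
        obtain ⟨⟨G, a, c⟩, hx⟩ := x
        cases a <;> cases c <;> rfl
      exact Nat.card_le_card_of_injective f fun x y h => Subtype.ext (by rw [← hdec x, h, hdec y])
    refine hle.trans ?_
    simp only [T, Nat.card_sum]
    have b2 := card_SD_dvd h2 d hm1 h01 hd1 hone
    have b3 := card_SD_dvd h2 d hm2 h02 hd2 hneg
    have b4 := card_SD_dvd h2 d (hm1.mul hm2) (by rw [mul_coeff_zero]; exact mul_ne_zero h01 h02)
      (by rw [dual_mul, hd1, hd2]) (δ := 2) (by rw [hm1.natDegree_mul hm2, hone, hneg])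
    have b1 := card_SD h2 d
    rw [wEven]
    omega
  · rw [wSp, if_pos ho, wOdd]
    have hc : ∀ x : Fibre F k d, x.1.2.1 = false ∧ x.1.2.2 = false := fun x =>
      ⟨Bool.eq_false_iff.2 fun h => Nat.not_even_iff_odd.2 ho (x.2.1.2.2.2.2.1 h).1,
        Bool.eq_false_iff.2 fun h => Nat.not_even_iff_odd.2 ho (x.2.1.2.2.2.2.2 h).1⟩
    split_ifs with hev
    · refine le_trans (Nat.card_le_card_of_injective
        (fun x : Fibre F k d => (⟨x.toSD, (x.2.1.2.2.2.1 ho).2⟩ : {G : SD F d // G.1.coeff 0 = 1}))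
        fun x y h => Subtype.ext (Prod.ext (congrArg (fun G : {G : SD F d // G.1.coeff 0 = 1} => G.1.1) h)
          (Prod.ext ((hc x).1.trans (hc y).1.symm) ((hc x).2.trans (hc y).2.symm)))) ?_
      exact card_SD_const 1 fun G _ i hi hd => absurd hd (by omega)
    · haveI : IsEmpty (Fibre F k d) := ⟨fun x => hev (x.2.2 ▸ (x.2.1.2.2.2.1 ho).1)⟩
      rw [Nat.card_of_isEmpty]

/-- The classes counted by shapes. -/
theorem card_classes_le (hodd : Odd (Fintype.card F)) (m : ℕ) :
    Nat.card (ConjClasses ↥(Matrix.symplecticGroup (Fin m) F)) ≤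
      ∑ d ∈ shapes (2 * m) (2 * m), ∏ k, wSp (Fintype.card F) (k.val + 1) (d k) := by
  classical
  have h2 : (2 : F) ≠ 0 := fun h => by
    have h3 : (ringChar F) = 2 := by
      have h4 : ringChar F ∣ 2 := ringChar.dvd (by exact_mod_cast h)
      obtain ⟨_, hp, -⟩ := FiniteField.card F (ringChar F)
      exact (Nat.prime_dvd_prime_iff_eq hp Nat.prime_two).1 h4
    exact Ring.two_ne_zero (R := F) (fun h5 => by
      obtain ⟨e, -, hcard⟩ := FiniteField.card F (ringChar F)
      rw [hcard, h5] at hodd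
      exact Nat.not_odd_iff_even.2 (Nat.even_pow.2 ⟨even_two, e.pos.ne'⟩) hodd) h
  obtain ⟨f, hf⟩ := exists_injective_classes (F := F) (m := m) hodd
  let T := Σ d : {d // d ∈ shapes (2 * m) (2 * m)}, ∀ k : Fin (2 * m), Fibre F (k.val + 1) (d.1 k)
  have hT : Nat.card T ≤ ∑ d ∈ shapes (2 * m) (2 * m), ∏ k, wSp (Fintype.card F) (k.val + 1) (d k) := by
    rw [Nat.card_sigma, ← Finset.sum_coe_sort (shapes (2 * m) (2 * m))]
    refine Finset.sum_le_sum fun d _ => ?_
    rw [Nat.card_pi]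
    exact Finset.prod_le_prod' fun k _ => card_fibre h2 _ _
  refine le_trans (Nat.card_le_card_of_injective
    (fun C => (⟨⟨fun k => ((f C).1 k).1.natDegree, mem_shapes.2 (f C).2.2⟩,
      fun k => ⟨(f C).1 k, (f C).2.1 k, rfl⟩⟩ : T)) fun C D h => hf (Subtype.ext ?_)) hT
  exact congrArg (fun z : T => fun k => (z.2 k).1) h

end Cfsg.Agent.Small.ClassNumberSp
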