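import Mathlib
import Cfsg.Agent.Lib.Small.ClassNumberSp.Count

/-!
Numerical bound for the weighted sum over shapes in odd characteristic.
-/

set_option autoImplicit false
set_option linter.unusedSectionVars false
set_option linter.style.haveILetI false

namespace Cfsg.Agent.Small.ClassNumberSp

open Cfsg.Agent.Small.ClassNumberU

/-- The weighted number of shapes. -/
def spSum (q M n : ℕ) : ℕ := ∑ d ∈ shapes M n, ∏ k, wSp q (k.val + 1) (d k)

theorem spSum_zero_left {q n : ℕ} : spSum q 0 n = if n = 0 then 1 else 0 := by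
  have h : shapes 0 n = if n = 0 then {fun k => k.elim0} else ∅ := by
    ext d
    rw [mem_shapes, Finset.univ_eq_empty, Finset.sum_empty]
    split_ifs with hn
    · exact ⟨fun _ => Finset.mem_singleton.2 (funext fun k => k.elim0), fun _ => hn.symm⟩
    · exact ⟨fun e => absurd e.symm hn, fun e => absurd e (Finset.notMem_empty _)⟩
  rw [spSum, h]
  split_ifs
  · rw [Finset.sum_singleton, Finset.univ_eq_empty, Finset.prod_empty]
  · rw [Finset.sum_empty]

theorem spSum_succ_le (q M n : ℕ) :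
    spSum q (M + 1) n ≤ ∑ a ∈ Finset.range (n / (M + 1) + 1), wSp q (M + 1) a * spSum q M (n - (M + 1) * a) := by
  have hmem : ∀ d ∈ shapes (M + 1) n, d (Fin.last M) ∈ Finset.range (n / (M + 1) + 1) := by
    intro d hd
    rw [mem_shapes, Fin.sum_univ_castSucc] at hd
    rw [Finset.mem_range, Nat.lt_succ_iff, Nat.le_div_iff_mul_le (Nat.succ_pos M), mul_comm]
    simp only [Fin.val_last, Nat.succ_eq_add_one] at hd ⊢
    omega
  rw [spSum, ← Finset.sum_fiberwise_of_maps_to hmem]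
  refine Finset.sum_le_sum fun a _ => ?_
  rw [spSum, Finset.mul_sum]
  refine le_of_eq_of_le ?_ (Finset.sum_le_sum_of_subset
    (s := ((shapes (M + 1) n).filter fun d => d (Fin.last M) = a).image fun d k => d k.castSucc) ?_)
  · rw [Finset.sum_image]
    · refine Finset.sum_congr rfl fun d hd => ?_
      rw [Fin.prod_univ_castSucc, (Finset.mem_filter.1 hd).2, mul_comm]
      simp only [Fin.val_last, Fin.val_castSucc]
    · intro d hd d' hd' h
      funext k
      induction k using Fin.lastCases with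
      | last => rw [(Finset.mem_filter.1 hd).2, (Finset.mem_filter.1 hd').2]
      | cast k => exact congrFun h k
  · intro e he
    obtain ⟨d, hd, rfl⟩ := Finset.mem_image.1 he
    obtain ⟨hd', rfl⟩ := Finset.mem_filter.1 hd
    rw [mem_shapes, Fin.sum_univ_castSucc] at hd'
    rw [mem_shapes]
    simp only [Fin.val_last, Fin.val_castSucc] at hd' ⊢
    omega

/-- A bound for all even weights, the odd ones vanishing. -/
def Good (q M : ℕ) (c : ℚ) : Prop :=
  (∀ n, Odd n → spSum q M n = 0) ∧ ∀ m, (spSum q M (2 * m) : ℚ) ≤ c * (q : ℚ) ^ m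

theorem sum_range_two (g : ℕ → ℚ) : ∀ K, ∑ a ∈ Finset.range (2 * K), g a = ∑ b ∈ Finset.range K, (g (2 * b) + g (2 * b + 1))
  | 0 => by simp
  | K + 1 => by
    rw [show 2 * (K + 1) = 2 * K + 1 + 1 by ring, Finset.sum_range_succ, Finset.sum_range_succ, sum_range_two g K,
      Finset.sum_range_succ]
    ring

theorem geom_le {r : ℚ} (h0 : 0 ≤ r) (h1 : r < 1) (K : ℕ) : ∑ b ∈ Finset.range K, r ^ b ≤ 1 / (1 - r) := by
  rw [le_div_iff₀ (by linarith), mul_comm, mul_neg_geom_sum]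
  have : 0 ≤ r ^ K := by positivity
  linarith

theorem step_odd {q k : ℕ} {c : ℚ} (hq : 2 ≤ q) (hk : Odd (k + 1)) (hk2 : 2 ≤ k + 1) (hc : 0 ≤ c)
    (h : Good q k c) : Good q (k + 1) (c * (1 / (1 - ((q : ℚ) ^ k)⁻¹))) := by
  have hr1 : ((q : ℚ) ^ k)⁻¹ < 1 := inv_lt_one_of_one_lt₀ (one_lt_pow₀ (by exact_mod_cast hq) (by omega))
  have hr0 : 0 ≤ ((q : ℚ) ^ k)⁻¹ := by positivity
  obtain ⟨ho, he⟩ := h
  have hw : ∀ a, ¬ Even a → wSp q (k + 1) a = 0 := fun a ha => by rw [wSp, if_pos hk, wOdd, if_neg ha]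
  refine ⟨fun n hn => Nat.eq_zero_of_le_zero ((spSum_succ_le q k n).trans (le_of_eq ?_)), fun m => ?_⟩
  · refine Finset.sum_eq_zero fun a ha => ?_
    by_cases hev : Even a
    · have hle : (k + 1) * a ≤ n := (Nat.mul_le_mul_left _ (Nat.lt_succ_iff.1 (Finset.mem_range.1 ha))).trans
        (Nat.mul_div_le n (k + 1))
      rw [ho _ (Nat.Odd.sub_even hle hn (hev.mul_left _)), mul_zero]
    · rw [hw a hev, zero_mul]
  · have hbnd : ∀ a ∈ Finset.range (2 * m / (k + 1) + 1),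
        (wSp q (k + 1) a : ℚ) * (spSum q k (2 * m - (k + 1) * a) : ℚ) ≤
          c * (q : ℚ) ^ m * (if Even a then (((q : ℚ) ^ k)⁻¹) ^ (a / 2) else 0) := by
      intro a ha
      have hle : (k + 1) * a ≤ 2 * m := (Nat.mul_le_mul_left _ (Nat.lt_succ_iff.1 (Finset.mem_range.1 ha))).trans
        (Nat.mul_div_le (2 * m) (k + 1))
      by_cases hev : Even a
      · obtain ⟨b, rfl⟩ := hev
        rw [if_pos ⟨b, rfl⟩, show (b + b) / 2 = b by omega, wSp, if_pos hk, wOdd, if_pos ⟨b, rfl⟩,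
          show (b + b) / 2 = b by omega]
        rw [Nat.mul_add] at hle
        obtain ⟨e, rfl⟩ : ∃ e, m = e + (k + 1) * b := ⟨m - (k + 1) * b, by omega⟩
        rw [show 2 * (e + (k + 1) * b) - (k + 1) * (b + b) = 2 * e by rw [Nat.mul_add (k + 1)]; omega]
        push_cast
        refine (mul_le_mul_of_nonneg_left (he e) (by positivity)).trans (le_of_eq ?_)
        rw [inv_pow, ← pow_mul, show e + (k + 1) * b = e + b + k * b by ring, pow_add (q : ℚ) (e + b),
          pow_add (q : ℚ) e b]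
        field_simp
      · rw [hw a hev, if_neg hev]
        simp
    calc (spSum q (k + 1) (2 * m) : ℚ)
        ≤ ∑ a ∈ Finset.range (2 * m / (k + 1) + 1),
            (wSp q (k + 1) a : ℚ) * (spSum q k (2 * m - (k + 1) * a) : ℚ) := by
          exact_mod_cast spSum_succ_le q k (2 * m)
      _ ≤ ∑ a ∈ Finset.range (2 * m / (k + 1) + 1),
            c * (q : ℚ) ^ m * (if Even a then (((q : ℚ) ^ k)⁻¹) ^ (a / 2) else 0) := Finset.sum_le_sum hbnd
      _ ≤ _ := by
          rw [← Finset.mul_sum, mul_right_comm c (1 / _)]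
          refine mul_le_mul_of_nonneg_left ?_ (by positivity)
          refine (Finset.sum_le_sum_of_subset_of_nonneg (t := Finset.range (2 * (2 * m / (k + 1) + 1)))
            (fun a ha => Finset.mem_range.2 (by have := Finset.mem_range.1 ha; omega))
            (fun a _ _ => by split_ifs <;> positivity)).trans ?_
          rw [sum_range_two]
          refine le_of_eq_of_le (Finset.sum_congr rfl fun b _ => ?_) (geom_le hr0 hr1 _)
          rw [if_pos (even_two_mul b), if_neg (Nat.not_even_iff_odd.2 (odd_two_mul_add_one b)), add_zero,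
            Nat.mul_div_cancel_left b two_pos]

theorem sum_nb_le {q : ℕ} (hq : 1 ≤ q) {t : ℚ} (ht : 0 ≤ t) (htq : (q : ℚ) * t ^ 2 < 1) (K : ℕ) :
    ∑ a ∈ Finset.range K, (nb q a : ℚ) * t ^ a ≤ (1 + t) ^ 2 / (1 - (q : ℚ) * t ^ 2) := by
  refine (Finset.sum_le_sum_of_subset_of_nonneg (t := Finset.range (2 * K))
    (fun a ha => Finset.mem_range.2 (by have := Finset.mem_range.1 ha; omega))
    (fun a _ _ => by positivity)).trans ?_
  rw [sum_range_two]
  have hterm : ∀ b : ℕ, (nb q (2 * b) : ℚ) * t ^ (2 * b) + (nb q (2 * b + 1) : ℚ) * t ^ (2 * b + 1) =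
      (1 + 2 * t) * ((q : ℚ) * t ^ 2) ^ b + t ^ 2 * (if b = 0 then 0 else ((q : ℚ) * t ^ 2) ^ (b - 1)) := by
    intro b
    have e1 : nb q (2 * b + 1) = 2 * q ^ b := by
      rw [nb, if_neg (by omega), if_neg (Nat.not_even_iff_odd.2 (odd_two_mul_add_one b)),
        show (2 * b + 1) / 2 = b by omega]
    rcases Nat.eq_zero_or_pos b with rfl | hb
    · rw [e1]; simp [nb]
    · obtain ⟨j, rfl⟩ : ∃ j, b = j + 1 := ⟨b - 1, by omega⟩
      rw [e1, nb, if_neg (by omega), if_pos (even_two_mul _), Nat.mul_div_cancel_left _ two_pos,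
        if_neg (Nat.succ_ne_zero j), Nat.add_sub_cancel]
      push_cast
      rw [mul_pow, mul_pow, ← pow_mul, ← pow_mul]
      ring
  rw [Finset.sum_congr rfl fun b _ => hterm b, Finset.sum_add_distrib, ← Finset.mul_sum, ← Finset.mul_sum]
  have hg := geom_le (r := (q : ℚ) * t ^ 2) (by positivity) htq K
  have hg' : ∑ b ∈ Finset.range K, (if b = 0 then 0 else ((q : ℚ) * t ^ 2) ^ (b - 1)) ≤
      1 / (1 - (q : ℚ) * t ^ 2) := by
    rcases Nat.eq_zero_or_pos K with rfl | hK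
    · simpa using (le_of_lt (show (0 : ℚ) < 1 / (1 - (q : ℚ) * t ^ 2) from div_pos one_pos (by linarith)))
    · obtain ⟨L, rfl⟩ : ∃ L, K = L + 1 := ⟨K - 1, by omega⟩
      rw [Finset.sum_range_succ', if_pos rfl, add_zero]
      refine le_of_eq_of_le (Finset.sum_congr rfl fun b _ => ?_)
        (geom_le (r := (q : ℚ) * t ^ 2) (by positivity) htq L)
      rw [if_neg (Nat.succ_ne_zero b), Nat.add_sub_cancel]
  calc _ ≤ (1 + 2 * t) * (1 / (1 - (q : ℚ) * t ^ 2)) + t ^ 2 * (1 / (1 - (q : ℚ) * t ^ 2)) :=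
        add_le_add (mul_le_mul_of_nonneg_left hg (by positivity)) (mul_le_mul_of_nonneg_left hg' (by positivity))
    _ = _ := by ring

theorem sum_shift {f : ℕ → ℚ} (hf : ∀ a, 0 ≤ f a) (t : ℚ) (ht : 0 ≤ t) (δ K : ℕ) :
    ∑ a ∈ Finset.range K, (if δ ≤ a then f (a - δ) else 0) * t ^ a ≤ t ^ δ * ∑ a ∈ Finset.range K, f a * t ^ a := by
  rw [Finset.mul_sum]
  calc ∑ a ∈ Finset.range K, (if δ ≤ a then f (a - δ) else 0) * t ^ a
      = ∑ a ∈ (Finset.range K).filter (δ ≤ ·), t ^ δ * (f (a - δ) * t ^ (a - δ)) := by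
        rw [Finset.sum_filter]
        refine Finset.sum_congr rfl fun a _ => ?_
        split_ifs with h
        · conv_lhs => rw [show a = δ + (a - δ) by omega, pow_add, Nat.add_sub_cancel_left]
          ring
        · rw [zero_mul]
    _ = ∑ a ∈ ((Finset.range K).filter (δ ≤ ·)).image (· - δ), t ^ δ * (f a * t ^ a) := by
        rw [Finset.sum_image]
        intro a ha b hb h
        have h1 := (Finset.mem_filter.1 ha).2
        have h2 := (Finset.mem_filter.1 hb).2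
        simp only at h
        omega
    _ ≤ _ := Finset.sum_le_sum_of_subset_of_nonneg (fun a ha => by
        obtain ⟨b, hb, rfl⟩ := Finset.mem_image.1 ha
        have := Finset.mem_range.1 (Finset.mem_filter.1 hb).1
        exact Finset.mem_range.2 (by omega)) fun a _ _ => by have := hf a; positivity

theorem sum_wEven_le {q : ℕ} (hq : 1 ≤ q) {t : ℚ} (ht : 0 ≤ t) (htq : (q : ℚ) * t ^ 2 < 1) (K : ℕ) :
    ∑ a ∈ Finset.range K, (wEven q a : ℚ) * t ^ a ≤ (1 + t) ^ 4 / (1 - (q : ℚ) * t ^ 2) := by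
  have h := sum_nb_le hq ht htq K
  have h1 := sum_shift (f := fun a => (nb q a : ℚ)) (fun a => Nat.cast_nonneg _) t ht 1 K
  have h2 := sum_shift (f := fun a => (nb q a : ℚ)) (fun a => Nat.cast_nonneg _) t ht 2 K
  have he : ∀ a, (wEven q a : ℚ) * t ^ a = (nb q a : ℚ) * t ^ a +
      2 * ((if 1 ≤ a then (nb q (a - 1) : ℚ) else 0) * t ^ a) + (if 2 ≤ a then (nb q (a - 2) : ℚ) else 0) * t ^ a := by
    intro a
    rw [wEven]
    push_cast
    ring
  rw [Finset.sum_congr rfl fun a _ => he a, Finset.sum_add_distrib, Finset.sum_add_distrib, ← Finset.mul_sum]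
  calc _ ≤ (1 + t) ^ 2 * ∑ a ∈ Finset.range K, (nb q a : ℚ) * t ^ a := by nlinarith
    _ ≤ (1 + t) ^ 2 * ((1 + t) ^ 2 / (1 - (q : ℚ) * t ^ 2)) := mul_le_mul_of_nonneg_left h (by positivity)
    _ = _ := by ring

theorem step_even {q J : ℕ} {c : ℚ} (hq : 2 ≤ q) (hJ : 1 ≤ J) (hc : 0 ≤ c) (h : Good q (2 * J - 1) c) :
    Good q (2 * J) (c * ((1 + ((q : ℚ) ^ J)⁻¹) ^ 4 / (1 - (q : ℚ) * (((q : ℚ) ^ J)⁻¹) ^ 2))) := by
  obtain ⟨ho, he⟩ := h
  set M := 2 * J - 1 with hM
  have hMJ : 2 * J = M + 1 := by omega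
  refine ⟨fun n hn => Nat.eq_zero_of_le_zero (hMJ ▸ (spSum_succ_le q M n).trans (le_of_eq ?_)), fun m => ?_⟩
  · refine Finset.sum_eq_zero fun a ha => ?_
    have hle : (M + 1) * a ≤ n := (Nat.mul_le_mul_left _ (Nat.lt_succ_iff.1 (Finset.mem_range.1 ha))).trans
      (Nat.mul_div_le n (M + 1))
    rw [ho _ (Nat.Odd.sub_even hle hn (Even.mul_right ⟨J, by omega⟩ a)), mul_zero]
  · have hq0 : (0 : ℚ) < q := by exact_mod_cast (by omega : 0 < q)
    have htq : (q : ℚ) * (((q : ℚ) ^ J)⁻¹) ^ 2 < 1 := by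
      rw [inv_pow, ← pow_mul, ← div_eq_mul_inv, div_lt_one (by positivity)]
      calc (q : ℚ) = (q : ℚ) ^ 1 := (pow_one _).symm
        _ < (q : ℚ) ^ (J * 2) := pow_lt_pow_right₀ (by exact_mod_cast hq) (by omega)
    have hbnd : ∀ a ∈ Finset.range (2 * m / (M + 1) + 1),
        (wSp q (M + 1) a : ℚ) * (spSum q M (2 * m - (M + 1) * a) : ℚ) ≤
          c * (q : ℚ) ^ m * ((wEven q a : ℚ) * (((q : ℚ) ^ J)⁻¹) ^ a) := by
      intro a ha
      have hle : (M + 1) * a ≤ 2 * m := (Nat.mul_le_mul_left _ (Nat.lt_succ_iff.1 (Finset.mem_range.1 ha))).trans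
        (Nat.mul_div_le (2 * m) (M + 1))
      rw [wSp, if_neg (Nat.not_odd_iff_even.2 ⟨J, by omega⟩)]
      rw [← hMJ, Nat.mul_assoc] at hle ⊢
      obtain ⟨e, rfl⟩ : ∃ e, m = e + J * a := ⟨m - J * a, by omega⟩
      rw [show 2 * (e + J * a) - 2 * (J * a) = 2 * e by omega]
      refine (mul_le_mul_of_nonneg_left (he e) (Nat.cast_nonneg _)).trans (le_of_eq ?_)
      rw [inv_pow, ← pow_mul, pow_add]
      field_simp
    calc (spSum q (2 * J) (2 * m) : ℚ)
        ≤ ∑ a ∈ Finset.range (2 * m / (M + 1) + 1),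
            (wSp q (M + 1) a : ℚ) * (spSum q M (2 * m - (M + 1) * a) : ℚ) := by
          rw [hMJ]
          exact_mod_cast spSum_succ_le q M (2 * m)
      _ ≤ ∑ a ∈ Finset.range (2 * m / (M + 1) + 1),
            c * (q : ℚ) ^ m * ((wEven q a : ℚ) * (((q : ℚ) ^ J)⁻¹) ^ a) := Finset.sum_le_sum hbnd
      _ ≤ _ := by
          rw [← Finset.mul_sum, mul_right_comm c (_ / _)]
          exact mul_le_mul_of_nonneg_left (sum_wEven_le (by omega) (by positivity) htq _) (by positivity)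

theorem good_one {q : ℕ} : Good q 1 1 := by
  have h : ∀ n, spSum q 1 n = wSp q 1 n := by
    intro n
    have hsub : shapes 1 n = {fun _ => n} := by
      ext d
      rw [mem_shapes, Finset.mem_singleton, Fin.sum_univ_one]
      constructor
      · intro h
        funext k
        rw [Fin.fin_one_eq_zero k]
        simpa using h
      · rintro rfl
        simp
    rw [spSum, hsub, Finset.sum_singleton, Fin.prod_univ_one]
    rfl
  refine ⟨fun n hn => ?_, fun m => ?_⟩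
  · rw [h, wSp, if_pos odd_one, wOdd, if_neg (Nat.not_even_iff_odd.2 hn)]
  · rw [h, wSp, if_pos odd_one, wOdd, if_pos (even_two_mul m), Nat.mul_div_cancel_left _ two_pos, one_mul]
    push_cast
    exact le_rfl

/-- The factor of a pair of part sizes. -/
def facE (q : ℚ) (J : ℕ) : ℚ := (1 + (q ^ J)⁻¹) ^ 4 / (1 - q * ((q ^ J)⁻¹) ^ 2)

/-- The factor of an odd part size. -/
def facO (q : ℚ) (J : ℕ) : ℚ := 1 / (1 - (q ^ (2 * J))⁻¹)

/-- The combined factor. -/
def facB (q : ℚ) (J : ℕ) : ℚ := facE q J * facO q J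

theorem denE_pos {q : ℚ} (hq : 2 ≤ q) (J : ℕ) : 0 < 1 - q * ((q ^ (J + 1))⁻¹) ^ 2 := by
  have h1 : q * ((q ^ (J + 1))⁻¹) ^ 2 = (q ^ (2 * J + 1))⁻¹ := by
    rw [inv_pow, ← pow_mul, show (J + 1) * 2 = 2 * J + 1 + 1 by ring, pow_succ q (2 * J + 1)]
    field_simp
  rw [h1]
  have := inv_lt_one_of_one_lt₀ (one_lt_pow₀ (show 1 < q by linarith) (show 2 * J + 1 ≠ 0 by omega))
  linarith

theorem denO_pos {q : ℚ} (hq : 2 ≤ q) (J : ℕ) : 0 < 1 - (q ^ (2 * (J + 1)))⁻¹ := by
  have := inv_lt_one_of_one_lt₀ (one_lt_pow₀ (show 1 < q by linarith) (show 2 * (J + 1) ≠ 0 by omega))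
  linarith

theorem facE_nonneg {q : ℚ} (hq : 2 ≤ q) (J : ℕ) : 0 ≤ facE q (J + 1) := by
  have := denE_pos hq J
  have : (0 : ℚ) ≤ q := by linarith
  unfold facE
  positivity

theorem one_le_facO {q : ℚ} (hq : 2 ≤ q) (J : ℕ) : 1 ≤ facO q (J + 1) := by
  have := denO_pos hq J
  have : 0 ≤ (q ^ (2 * (J + 1)))⁻¹ := by positivity
  rw [facO, le_div_iff₀ (by linarith)]
  linarith

theorem one_le_facB {q : ℚ} (hq : 2 ≤ q) (J : ℕ) : 1 ≤ facB q (J + 1) := by
  have h1 : 1 ≤ facE q (J + 1) := by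
    have hd := denE_pos hq J
    have h0 : 0 ≤ (q ^ (J + 1))⁻¹ := by positivity
    rw [facE, le_div_iff₀ hd, one_mul]
    have : 1 ≤ (1 + (q ^ (J + 1))⁻¹) ^ 4 := one_le_pow₀ (by linarith)
    have : 0 ≤ q * ((q ^ (J + 1))⁻¹) ^ 2 := mul_nonneg (by linarith) (sq_nonneg _)
    linarith
  exact one_le_mul_of_one_le_of_one_le h1 (one_le_facO hq J)

theorem facB_anti {q : ℚ} (hq : 3 ≤ q) (J : ℕ) : facB q (J + 1) ≤ facB 3 (J + 1) := by
  have hpow : ∀ N : ℕ, (q ^ N)⁻¹ ≤ ((3 : ℚ) ^ N)⁻¹ := fun N =>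
    inv_anti₀ (by positivity) (pow_le_pow_left₀ (by norm_num) hq N)
  have h0 : 0 ≤ (q ^ (J + 1))⁻¹ := by have : (0 : ℚ) ≤ q := by linarith
                                      positivity
  have e : ∀ x : ℚ, 0 < x → x * ((x ^ (J + 1))⁻¹) ^ 2 = (x ^ (2 * J + 1))⁻¹ := fun x hx => by
    rw [inv_pow, ← pow_mul, show (J + 1) * 2 = 2 * J + 1 + 1 by ring, pow_succ x (2 * J + 1)]
    field_simp
  refine mul_le_mul (div_le_div₀ (by positivity) (pow_le_pow_left₀ (by linarith) (by linarith [hpow (J + 1)]) 4)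
    (denE_pos (by norm_num) J) ?_) (div_le_div₀ zero_le_one le_rfl (denO_pos (by norm_num) J)
      (by linarith [hpow (2 * (J + 1))]))
    (le_trans zero_le_one (one_le_facO (by linarith) J)) (facE_nonneg (by norm_num) J)
  rw [e q (by linarith), e 3 (by norm_num)]
  linarith [hpow (2 * J + 1)]

theorem good_odd {q : ℕ} (hq : 3 ≤ q) : ∀ J, Good q (2 * J + 1) (∏ i ∈ Finset.range J, facB q (i + 1)) := by
  intro J
  have hq2 : (2 : ℚ) ≤ q := by exact_mod_cast (by omega : 2 ≤ q)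
  induction J with
  | zero => simpa using good_one
  | succ J ih =>
    have hc : 0 ≤ ∏ i ∈ Finset.range J, facB (q : ℚ) (i + 1) :=
      Finset.prod_nonneg fun i _ => le_trans zero_le_one (one_le_facB hq2 i)
    have h1 := step_even (q := q) (J := J + 1) (by omega) (by omega) hc
      (by rw [show 2 * (J + 1) - 1 = 2 * J + 1 by omega]; exact ih)
    have h2 := step_odd (q := q) (k := 2 * (J + 1)) (by omega) ⟨J + 1, rfl⟩ (by omega)
      (mul_nonneg hc (facE_nonneg hq2 J)) h1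
    rw [Finset.prod_range_succ]
    show Good q (2 * (J + 1) + 1) (_ * (facE (q : ℚ) (J + 1) * facO (q : ℚ) (J + 1)))
    rw [← mul_assoc]
    exact h2

theorem prod_facB_le {q : ℚ} (hq : 3 ≤ q) (n : ℕ) : ∏ i ∈ Finset.range n, facB q (i + 1) ≤ 54 / 5 := by
  have hnn : ∀ i, 0 ≤ facB 3 (i + 1) := fun i => le_trans zero_le_one (one_le_facB (by norm_num) i)
  refine (Finset.prod_le_prod (fun i _ => le_trans zero_le_one (one_le_facB (by linarith) i))
    fun i _ => facB_anti hq i).trans ?_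
  have hstep : ∀ i, 6 ≤ i → facB 3 (i + 1) ≤ 1 + 9 / 2 * ((3 : ℚ) ^ (i + 1))⁻¹ := by
    intro i hi
    have hle : ((3 : ℚ) ^ (i + 1))⁻¹ ≤ 1 / 2187 := by
      rw [one_div]
      exact inv_anti₀ (by norm_num)
        (le_trans (by norm_num) (pow_le_pow_right₀ (by norm_num) (show 7 ≤ i + 1 by omega)))
    set r := ((3 : ℚ) ^ (i + 1))⁻¹ with hr
    have h0 : 0 ≤ r := by positivity
    have hr2 : r ^ 2 ≤ r * (1 / 2187) := by rw [sq]; exact mul_le_mul_of_nonneg_left hle h0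
    have hd : 1 - 3 * r ^ 2 > 0 := by nlinarith
    have hd' : 1 - r ^ 2 > 0 := by nlinarith
    have hO : facO 3 (i + 1) = 1 / (1 - r ^ 2) := by rw [facO, hr, inv_pow, ← pow_mul, mul_comm (i + 1) 2]
    rw [facB, facE, ← hr, hO, div_mul_div_comm, mul_one, div_le_iff₀ (mul_pos hd hd')]
    have h3 : (1 + r) ^ 4 ≤ 1 + 4 * r + 11 * r ^ 2 := by nlinarith [sq_nonneg r, mul_le_mul_of_nonneg_left hle (sq_nonneg r)]
    have h4 : 1 - 4 * r ^ 2 ≤ (1 - 3 * r ^ 2) * (1 - r ^ 2) := by nlinarith [sq_nonneg (r ^ 2)]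
    refine h3.trans (le_trans ?_ (mul_le_mul_of_nonneg_left h4 (by positivity)))
    nlinarith
  have main : ∀ j, ∏ i ∈ Finset.range (6 + j), facB 3 (i + 1) ≤ 54 / 5 * (1 - 9 / 4 * ((3 : ℚ) ^ (6 + j))⁻¹) := by
    intro j
    induction j with
    | zero => norm_num [Finset.prod_range_succ, facB, facE, facO]
    | succ j ih =>
      rw [← add_assoc, Finset.prod_range_succ]
      refine (mul_le_mul ih (hstep (6 + j) (by omega)) (hnn _)
        ((Finset.prod_nonneg fun i _ => hnn i).trans ih)).trans ?_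
      rw [mul_assoc]
      refine mul_le_mul_of_nonneg_left ?_ (by norm_num)
      set s := ((3 : ℚ) ^ (6 + j + 1))⁻¹ with hs
      have hs3 : ((3 : ℚ) ^ (6 + j))⁻¹ = 3 * s := by
        rw [hs, pow_succ]
        field_simp
      rw [hs3]
      nlinarith [mul_self_nonneg s]
  refine le_trans (Finset.prod_le_prod_of_subset_of_one_le (Finset.range_mono (Nat.le_add_left n 6))
    (fun i _ => hnn i) fun i _ _ => one_le_facB (by norm_num) i) ((main n).trans ?_)
  have : 0 ≤ ((3 : ℚ) ^ (6 + n))⁻¹ := by positivity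
  linarith

/-- The numerical bound. -/
theorem spSum_le {q : ℕ} (hq : 3 ≤ q) (m : ℕ) (hm : 1 ≤ m) : 5 * spSum q (2 * m) (2 * m) ≤ 54 * q ^ m := by
  have hq2 : (2 : ℚ) ≤ q := by exact_mod_cast (by omega : 2 ≤ q)
  have hq3 : (3 : ℚ) ≤ q := by exact_mod_cast hq
  obtain ⟨J, rfl⟩ : ∃ J, m = J + 1 := ⟨m - 1, by omega⟩
  have hc : 0 ≤ ∏ i ∈ Finset.range J, facB (q : ℚ) (i + 1) :=
    Finset.prod_nonneg fun i _ => le_trans zero_le_one (one_le_facB hq2 i)
  have h1 := (step_even (q := q) (J := J + 1) (by omega) (by omega) hc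
      (by rw [show 2 * (J + 1) - 1 = 2 * J + 1 by omega]; exact good_odd hq J)).2 (J + 1)
  have h2 : (∏ i ∈ Finset.range J, facB (q : ℚ) (i + 1)) * facE (q : ℚ) (J + 1) ≤ 54 / 5 := by
    refine le_trans ?_ (prod_facB_le hq3 (J + 1))
    rw [Finset.prod_range_succ]
    exact mul_le_mul_of_nonneg_left (le_mul_of_one_le_right (facE_nonneg hq2 J) (one_le_facO hq2 J)) hc
  have : ((5 * spSum q (2 * (J + 1)) (2 * (J + 1)) : ℕ) : ℚ) ≤ ((54 * q ^ (J + 1) : ℕ) : ℚ) := by
    push_cast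
    have h3 := h1.trans (mul_le_mul_of_nonneg_right h2 (by positivity))
    linarith
  exact_mod_cast this

end Cfsg.Agent.Small.ClassNumberSp
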